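import Cfsg.Agent.Char.ClassPairAverage
import Cfsg.Agent.Char.NormTwo
import Cfsg.Agent.Char.TI
import Cfsg.Agent.Char.Induction
import Cfsg.Agent.Char.Linear
import Cfsg.Agent.Char.Burnside

/-!
# A product of a centraliser and a self-centralising abelian subgroup

A simple group `G = C(x) A`, with `A` abelian, `C(u) = A` for `1 ≠ u ∈ A`, of non-prime-power order,
cannot have all centralisers of elements not conjugate into `A` of order at least `[N(A) : A]`.
-/

set_option autoImplicit false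

namespace CfsgLib.ClassRank

open CfsgLib.Char
open scoped ComplexConjugate

universe u

variable {G : Type u} [Group G] [Fintype G]

/-- The data of the configuration. -/
structure CoprimeConfig (G : Type u) [Group G] where
  A : Subgroup G
  x : G
  comm : ∀ a ∈ A, ∀ b ∈ A, a * b = b * a
  self : ∀ a ∈ A, a ≠ 1 → Subgroup.centralizer ({a} : Set G) = A
  fac : ∀ g : G, ∃ h ∈ Subgroup.centralizer ({x} : Set G), ∃ a ∈ A, g = h * a
  notMem : ∀ g : G, g * x * g⁻¹ ∉ A

namespace CoprimeConfig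

variable (c : CoprimeConfig G)

/-- The normaliser of `A`. -/
abbrev N : Subgroup G := Subgroup.normalizer (c.A : Set G)

omit [Fintype G] in
theorem le_N : c.A ≤ c.N := Subgroup.le_normalizer

omit [Fintype G] in
theorem ti {g a : G} (ha : a ∈ c.A) (ha1 : a ≠ 1) (hga : g * a * g⁻¹ ∈ c.A) : g ∈ c.N := by
  by_contra h
  exact ha1 (eq_one_of_centralizer_eq c.self h ha hga)

omit [Fintype G] in
/-- Products of conjugates of `x` and of `y ∈ A` are conjugate to `x y`. -/
theorem isConj_prod {y : G} (hy : y ∈ c.A) (a b : G) :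
    IsConj (c.x * y) (a * c.x * a⁻¹ * (b * y * b⁻¹)) := by
  obtain ⟨h, hh, k, hk, hhk⟩ := c.fac (a⁻¹ * b)
  rw [Subgroup.mem_centralizer_singleton_iff] at hh
  refine isConj_iff.2 ⟨a * h, ?_⟩
  have hb : b = a * h * k := by
    rw [mul_assoc, ← hhk]; group
  rw [hb]
  calc a * h * (c.x * y) * (a * h)⁻¹ = a * (h * c.x) * y * h⁻¹ * a⁻¹ := by group
    _ = a * (c.x * h) * y * h⁻¹ * a⁻¹ := by rw [hh]
    _ = a * c.x * h * ((y * k) * k⁻¹) * h⁻¹ * a⁻¹ := by group
    _ = a * c.x * h * ((k * y) * k⁻¹) * h⁻¹ * a⁻¹ := by rw [c.comm y hy k hk]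
    _ = a * c.x * a⁻¹ * (a * h * k * y * (a * h * k)⁻¹) := by group

theorem mul_value {χ : G → ℂ} (hχ : Cfsg.IsIrrCharacter G χ) {y : G} (hy : y ∈ c.A) :
    χ 1 * χ (c.x * y) = χ c.x * χ y :=
  mul_eq_of_const hχ c.x y fun a b =>
    (IsClassFunction.apply_eq_of_isConj (IsIrrCharacter.isClassFunction hχ) (c.isConj_prod hy a b)).symm

omit [Fintype G] in
theorem x_ne_one : c.x ≠ 1 := fun h => c.notMem 1 (by rw [h]; simp [c.A.one_mem])

omit [Fintype G] in
theorem prod_ne_one {y : G} (hy : y ∈ c.A) : c.x * y ≠ 1 := fun h => c.notMem 1 (by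
  rw [eq_inv_of_mul_eq_one_left h]; simpa using hy)

section Simple

variable [IsSimpleGroup G] (hna : ¬ ∀ a b : G, a * b = b * a)

include hna in
theorem norm_lt {χ : G → ℂ} (hχ : Cfsg.IsIrrCharacter G χ) (h1 : χ ≠ fun _ => 1) {g : G} (hg : g ≠ 1) :
    ‖χ g‖ < (χ 1).re := by
  refine lt_of_le_of_ne (IsCharacter.norm_apply_le (IsIrrCharacter.isCharacter hχ) g) fun h => h1 ?_
  obtain ⟨n, ρ, hρ, rfl⟩ := hχ
  refine eq_one_of_norm_eq_of_simple hna ρ hg ?_
  rw [h, ρ.char_one]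
  simp

omit [IsSimpleGroup G] in
theorem sum_norm_sq (g : G) :
    ∑ χ ∈ irrFinset G, ‖χ g‖ ^ 2 = (Nat.card (Subgroup.centralizer ({g} : Set G)) : ℝ) := by
  classical
  have h := sum_irr_mul_conj g g
  rw [if_pos (IsConj.refl g)] at h
  simp only [Complex.mul_conj'] at h
  exact_mod_cast h

omit [IsSimpleGroup G] in
theorem term_le {χ : G → ℂ} (hχ : Cfsg.IsIrrCharacter G χ) {y : G} (hy : y ∈ c.A) :
    ‖χ (c.x * y)‖ ^ 2 = (‖χ c.x‖ / (χ 1).re) ^ 2 * ‖χ y‖ ^ 2 ∧ 0 < (χ 1).re := by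
  obtain ⟨d, hd0, hd⟩ := IsIrrCharacter.exists_degree hχ
  have hpos : 0 < (χ 1).re := by rw [hd]; simpa using hd0
  refine ⟨?_, hpos⟩
  have h := congrArg norm (c.mul_value hχ hy)
  rw [norm_mul, norm_mul, hd, Complex.norm_natCast] at h
  have hre : (χ 1).re = (d : ℝ) := by rw [hd]; simp
  rw [hre, div_pow, div_mul_eq_mul_div, eq_div_iff (by positivity), ← mul_pow, ← mul_pow, ← h, mul_comm]

include hna in
/-- `x y` is not conjugate into `A`. -/
theorem prod_not_mem (hA : 1 < Nat.card c.A) {y : G} (hy : y ∈ c.A) (hy1 : y ≠ 1) (g : G) :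
    g * (c.x * y) * g⁻¹ ∉ c.A := by
  classical
  intro hg
  set u := g * (c.x * y) * g⁻¹ with hu
  have hu1 : u ≠ 1 := fun h => c.prod_ne_one hy (conj_eq_one_iff.1 h)
  have hCu : Nat.card (Subgroup.centralizer ({u} : Set G)) = Nat.card c.A := by rw [c.self u hg hu1]
  have hCy : Nat.card (Subgroup.centralizer ({y} : Set G)) = Nat.card c.A := by rw [c.self y hy hy1]
  have h1 := sum_norm_sq u
  have h2 := sum_norm_sq y
  rw [hCu] at h1
  rw [hCy] at h2
  have hval : ∀ χ ∈ irrFinset G, ‖χ u‖ ^ 2 = (‖χ c.x‖ / (χ 1).re) ^ 2 * ‖χ y‖ ^ 2 := by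
    intro χ hχ
    rw [← (c.term_le (mem_irrFinset.1 hχ) hy).1,
      IsClassFunction.apply_eq_of_isConj (IsIrrCharacter.isClassFunction (mem_irrFinset.1 hχ))
        (isConj_iff.2 ⟨g, hu.symm⟩ : IsConj (c.x * y) u)]
  rw [Finset.sum_congr rfl hval] at h1
  have hle : ∀ χ ∈ irrFinset G, (‖χ c.x‖ / (χ 1).re) ^ 2 * ‖χ y‖ ^ 2 ≤ ‖χ y‖ ^ 2 := by
    intro χ hχ
    refine mul_le_of_le_one_left (by positivity) ?_
    have hp := (c.term_le (mem_irrFinset.1 hχ) hy).2
    rw [sq_le_one_iff₀ (by positivity), div_le_one hp]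
    exact IsCharacter.norm_apply_le (IsIrrCharacter.isCharacter (mem_irrFinset.1 hχ)) c.x
  obtain ⟨χ, hχ, hχ1, hχy⟩ : ∃ χ ∈ irrFinset G, χ ≠ (fun _ => (1 : ℂ)) ∧ χ y ≠ 0 := by
    by_contra hno
    push Not at hno
    rw [Finset.sum_eq_single (fun _ => (1 : ℂ))
      (fun χ hχ hne => by rw [hno χ hχ hne]; simp)
      (fun h => absurd (mem_irrFinset.2 isIrrCharacter_one) h)] at h2
    simp only [norm_one, one_pow] at h2
    have h3 : Nat.card c.A = 1 := by exact_mod_cast h2.symm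
    omega
  have hlt : (‖χ c.x‖ / (χ 1).re) ^ 2 * ‖χ y‖ ^ 2 < ‖χ y‖ ^ 2 := by
    refine mul_lt_of_lt_one_left (by positivity) ?_
    have hp := (c.term_le (mem_irrFinset.1 hχ) hy).2
    rw [sq_lt_one_iff₀ (by positivity), div_lt_one hp]
    exact norm_lt hna (mem_irrFinset.1 hχ) hχ1 c.x_ne_one
  have := Finset.sum_lt_sum hle ⟨χ, hχ, hlt⟩
  rw [h1, h2] at this
  exact lt_irrefl _ this

omit [IsSimpleGroup G] in
/-- A character not vanishing at `x` is constant on `A#`. -/
theorem const_on (hprod : ∀ y ∈ c.A, y ≠ 1 → ∀ g : G, g * (c.x * y) * g⁻¹ ∉ c.A) (hA : 1 < Nat.card c.A) {χ : G → ℂ} (hχ : Cfsg.IsIrrCharacter G χ) (hx : χ c.x ≠ 0) :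
    ∃ n : ℤ, ∀ y ∈ c.A, y ≠ 1 → χ y = n := by
  classical
  letI : CommGroup c.A :=
    { (inferInstance : Group c.A) with mul_comm := fun a b => Subtype.ext (c.comm a a.2 b b.2) }
  set r : c.A → ℂ := fun a => χ a with hr
  have hrch : Cfsg.IsCharacter c.A r := IsCharacter.restrict (IsIrrCharacter.isCharacter hχ) c.A
  have hχcl := IsIrrCharacter.isClassFunction hχ
  -- conjugation by the normaliser
  have hmem : ∀ n ∈ c.N, ∀ a : c.A, n * (a : G) * n⁻¹ ∈ c.A := fun n hn a =>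
    (Subgroup.mem_normalizer_iff.1 hn a).1 a.2
  let cn : ∀ n ∈ c.N, c.A →* c.A := fun n hn =>
    { toFun := fun a => ⟨n * a * n⁻¹, hmem n hn a⟩
      map_one' := Subtype.ext (by simp)
      map_mul' := fun a b => Subtype.ext (by push_cast; group) }
  have hfix : ∀ n (hn : n ∈ c.N), n ∉ c.A → ∀ lam : c.A →* ℂˣ, lam.comp (cn n hn) = lam → lam = 1 := by
    intro n hn hnA lam hl
    let f : c.A → c.A := fun a => a⁻¹ * cn n hn a
    have hinj : Function.Injective f := by
      intro a b hab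
      have h2 : (a : G)⁻¹ * (n * a * n⁻¹) = (b : G)⁻¹ * (n * b * n⁻¹) := congrArg Subtype.val hab
      by_contra hne
      have hne' : (b : G) * (a : G)⁻¹ ≠ 1 := fun h => hne (Subtype.ext (mul_inv_eq_one.1 h).symm)
      apply hnA
      rw [← c.self _ (mul_mem b.2 (inv_mem a.2)) hne', Subgroup.mem_centralizer_singleton_iff]
      have h3 : n * (b * (a : G)⁻¹) * n⁻¹ = b * (a : G)⁻¹ := by
        calc n * (b * (a : G)⁻¹) * n⁻¹ = (n * b * n⁻¹) * (n * a * n⁻¹)⁻¹ := by group
          _ = (b : G) * ((b : G)⁻¹ * (n * b * n⁻¹)) * (n * a * n⁻¹)⁻¹ := by group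
          _ = (b : G) * ((a : G)⁻¹ * (n * a * n⁻¹)) * (n * a * n⁻¹)⁻¹ := by rw [h2]
          _ = b * (a : G)⁻¹ := by group
      exact mul_inv_eq_iff_eq_mul.1 h3
    refine MonoidHom.ext fun a => ?_
    obtain ⟨b, rfl⟩ := Finite.injective_iff_surjective.1 hinj a
    have h4 : lam (cn n hn b) = lam b := DFunLike.congr_fun hl b
    simp [f, h4]
  -- the multiplicities
  let m : (c.A →* ℂˣ) → ℂ := fun lam => Cfsg.classInner r (fun a => (lam a : ℂ))
  have hinv : ∀ n (hn : n ∈ c.N) (lam : c.A →* ℂˣ), m (lam.comp (cn n hn)) = m lam := by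
    intro n hn lam
    simp only [m, classInner_def]
    congr 1
    have hbij : Function.Bijective (cn n hn) := by
      refine Finite.injective_iff_bijective.1 fun a b h => ?_
      exact Subtype.ext (mul_left_cancel (mul_right_cancel (congrArg Subtype.val h)))
    refine Fintype.sum_equiv (Equiv.ofBijective _ hbij) _ _ fun a => ?_
    rw [Equiv.ofBijective_apply, MonoidHom.comp_apply]
    congr 1
    exact (hχcl a n).symm
  have key : ∀ lam mu : c.A →* ℂˣ, lam ≠ 1 → mu ≠ 1 → m lam = m mu := by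
    intro lam mu hl hm
    by_cases horb : ∃ n, ∃ hn : n ∈ c.N, mu.comp (cn n hn) = lam
    · obtain ⟨n, hn, h⟩ := horb
      rw [← h, hinv n hn]
    push Not at horb
    have hlm : lam ≠ mu := fun h => horb 1 c.N.one_mem (by
      rw [h]; ext a; simp [cn])
    set ψ : c.A → ℂ := fun a => (lam a : ℂ) - mu a with hψ
    have hψgen : Cfsg.IsGeneralizedCharacter c.A ψ :=
      ⟨_, _, isCharacter_ofHom lam, isCharacter_ofHom mu, rfl⟩
    set Φ := Cfsg.indFun c.A ψ with hΦ
    have hΦ1 : Φ 1 = 0 := by rw [hΦ, indFun_one]; simp [hψ]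
    -- the restriction to `A`
    have hres : ∀ a : c.A, Φ a = (Nat.card c.A : ℂ)⁻¹ * ∑ n : c.N, ψ (cn _ (c.N.inv_mem n.2) a) := by
      intro a
      by_cases ha : a = 1
      · rw [ha, OneMemClass.coe_one, hΦ1]; simp [hψ]
      rw [hΦ, indFun_def]
      congr 1
      rw [← Finset.sum_filter_of_ne (p := fun g => g ∈ c.N) (fun g _ hg => by
        by_contra hgN
        apply hg
        refine extendByZero_of_not_mem ψ fun h => ?_
        apply hgN
        rw [← inv_inv g]
        exact c.N.inv_mem (c.ti a.2 (fun h' => ha (Subtype.ext h')) (by rw [inv_inv]; exact h)))]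
      rw [Finset.sum_subtype (Finset.univ.filter fun g => g ∈ c.N) (p := fun g => g ∈ c.N) (by simp)]
      refine Finset.sum_congr rfl fun n _ => ?_
      have hm : (n : G)⁻¹ * (a : G) * n ∈ c.A := by
        have := hmem _ (c.N.inv_mem n.2) a
        rwa [inv_inv] at this
      rw [extendByZero_of_mem ψ hm]
      congr 1
      ext; simp [cn]
    have hpair : ∀ α β : c.A →* ℂˣ, Cfsg.classInner (fun a => (α a : ℂ)) (fun a => (β a : ℂ)) =
        if α = β then 1 else 0 := by
      intro α β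
      rw [IsIrrCharacter.classInner_eq (isIrrCharacter_ofHom α) (isIrrCharacter_ofHom β)]
      refine if_congr ⟨fun h => ?_, fun h => by rw [h]⟩ rfl rfl
      ext a
      exact congrFun h a
    have hnorm : Cfsg.classInner Φ Φ = 2 := by
      rw [hΦ, classInner_indFun ψ (isClassFunction_indFun c.A ψ), ← hΦ,
        show (fun a : c.A => Φ a) = (Nat.card c.A : ℂ)⁻¹ • ∑ n : c.N,
          (fun a : c.A => ψ (cn _ (c.N.inv_mem n.2) a)) by
          funext a; rw [hres]; simp [Finset.sum_apply]]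
      rw [classInner_smul_right, classInner_sum_right]
      have hterm : ∀ n : c.N, Cfsg.classInner ψ (fun a : c.A => ψ (cn _ (c.N.inv_mem n.2) a)) =
          if (n : G) ∈ c.A then 2 else 0 := by
        intro n
        set q := cn _ (c.N.inv_mem n.2) with hq
        have e : (fun a : c.A => ψ (q a)) =
            (fun a => ((lam.comp q) a : ℂ)) - (fun a => ((mu.comp q) a : ℂ)) := rfl
        have e' : ψ = (fun a => (lam a : ℂ)) - (fun a => (mu a : ℂ)) := rfl
        rw [e, e', classInner_sub_left, classInner_sub_right, classInner_sub_right, hpair, hpair,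
          hpair, hpair]
        by_cases hnA : (n : G) ∈ c.A
        · have hid : q = MonoidHom.id c.A := by
            ext a
            show (n : G)⁻¹ * (a : G) * (n : G)⁻¹⁻¹ = a
            rw [inv_inv, mul_assoc, c.comm a a.2 n hnA, ← mul_assoc, inv_mul_cancel, one_mul]
          rw [hid, MonoidHom.comp_id, MonoidHom.comp_id, if_pos hnA]
          simp [hlm, Ne.symm hlm]; norm_num
        · have hn' : (n : G)⁻¹ ∉ c.A := fun h => hnA (by simpa using c.A.inv_mem h)
          have h1 : lam ≠ lam.comp q := fun h => hl (hfix _ (c.N.inv_mem n.2) hn' lam h.symm)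
          have h2 : mu ≠ mu.comp q := fun h => hm (hfix _ (c.N.inv_mem n.2) hn' mu h.symm)
          have h3 : lam ≠ mu.comp q := fun h => horb _ (c.N.inv_mem n.2) h.symm
          have h4 : mu ≠ lam.comp q := by
            intro h
            refine horb n n.2 ?_
            rw [h]
            ext a
            simp only [MonoidHom.comp_apply, hq]
            congr 2
            apply Subtype.ext
            show (n : G)⁻¹ * ((n : G) * a * (n : G)⁻¹) * (n : G)⁻¹⁻¹ = a
            group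
          simp [h1, h2, h3, h4, hnA]
      rw [Finset.sum_congr rfl fun n _ => hterm n, ← Finset.sum_filter, Finset.sum_const, nsmul_eq_mul,
        map_inv₀, Complex.conj_natCast]
      have hc : (Finset.univ.filter fun n : c.N => (n : G) ∈ c.A).card = Nat.card c.A := by
        rw [← Fintype.card_subtype, ← Nat.card_eq_fintype_card]
        exact Nat.card_congr
          ⟨fun n => ⟨n.1, n.2⟩, fun a => ⟨⟨a, c.le_N a.2⟩, a.2⟩, fun _ => rfl, fun _ => rfl⟩
      rw [hc, ← mul_assoc, inv_mul_cancel₀ (by exact_mod_cast (Nat.card_pos (α := c.A)).ne'), one_mul]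
    obtain ⟨μ', ν', hμ, hν, hne, heq⟩ :=
      IsGeneralized.exists_sub (IsGeneralized.indFun hψgen) hnorm hΦ1
    replace heq : Φ = μ' - ν' := heq
    have hvan : ∀ g : G, (∀ k : G, k * g * k⁻¹ ∉ c.A) → Φ g = 0 := fun g hg =>
      indFun_eq_zero ψ fun k => by
        have := hg k⁻¹
        rwa [inv_inv] at this
    have hcond : μ' c.x = 0 ∧ ν' c.x = 0 := by
      have hd : μ' 1 = ν' 1 := by
        have := congrFun heq 1; rw [hΦ1] at this; exact (sub_eq_zero.1 this.symm)
      have hv : μ' c.x = ν' c.x := by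
        have := congrFun heq c.x; rw [hvan _ c.notMem] at this; exact (sub_eq_zero.1 this.symm)
      obtain ⟨y, hy, hy1, hΦy⟩ : ∃ y ∈ c.A, y ≠ 1 ∧ Φ y ≠ 0 := by
        by_contra hno
        push Not at hno
        have : (fun a : c.A => Φ a) = 0 := by
          funext a
          by_cases ha : (a : G) = 1
          · show Φ a = 0; rw [ha, hΦ1]
          · exact hno a a.2 ha
        rw [hΦ, classInner_indFun ψ (isClassFunction_indFun c.A ψ), ← hΦ, this, classInner_zero_right] at hnorm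
        norm_num at hnorm
      have hvy : μ' (c.x * y) = ν' (c.x * y) := by
        have := congrFun heq (c.x * y)
        rw [hvan _ (hprod _ hy hy1)] at this
        exact sub_eq_zero.1 this.symm
      have e1 := c.mul_value hμ hy
      have e2 := c.mul_value hν hy
      rw [← hd, ← hvy, ← hv] at e2
      have hz : μ' c.x * (μ' y - ν' y) = 0 := by rw [mul_sub, ← e1, ← e2, sub_self]
      have hΦy' : μ' y - ν' y ≠ 0 := by
        intro h; apply hΦy; rw [heq]; exact h
      have := (mul_eq_zero.1 hz).resolve_right hΦy'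
      exact ⟨this, hv ▸ this⟩
    have hortho : Cfsg.classInner Φ χ = 0 := by
      rw [heq, classInner_sub_left, IsIrrCharacter.classInner_of_ne hμ hχ (fun h => hx (h ▸ hcond.1)),
        IsIrrCharacter.classInner_of_ne hν hχ (fun h => hx (h ▸ hcond.2)), sub_zero]
    rw [hΦ, classInner_indFun ψ hχcl] at hortho
    have e' : ψ = (fun a => (lam a : ℂ)) - (fun a => (mu a : ℂ)) := rfl
    rw [e', classInner_sub_left, sub_eq_zero] at hortho
    have := congrArg (starRingEnd ℂ) hortho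
    rw [classInner_conj, classInner_conj] at this
    exact this
  -- the expansion on `A`
  have hlin : ∀ η ∈ irrFinset c.A, ∃ lam : c.A →* ℂˣ, η = fun a => (lam a : ℂ) := by
    intro η hη
    obtain ⟨lam, hlam⟩ := IsCharacter.exists_hom (IsIrrCharacter.isCharacter (mem_irrFinset.1 hη))
      (IsIrrCharacter.apply_one_eq_one (mem_irrFinset.1 hη) (fun a b => mul_comm a b))
    exact ⟨lam, hlam⟩
  set one : c.A → ℂ := fun _ => (1 : ℂ) with hone
  obtain ⟨k₁, hk₁⟩ := IsCharacter.exists_classInner_eq_natCast' hrch isCharacter_one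
  -- a common multiplicity
  obtain ⟨M, hM⟩ : ∃ M : ℕ, ∀ η ∈ irrFinset c.A, η ≠ one → Cfsg.classInner r η = M := by
    by_cases hex : ∃ η ∈ irrFinset c.A, η ≠ one
    · obtain ⟨η₀, hη₀, hne₀⟩ := hex
      obtain ⟨M, hM⟩ := IsCharacter.exists_classInner_eq_natCast' hrch
        (IsIrrCharacter.isCharacter (mem_irrFinset.1 hη₀))
      refine ⟨M, fun η hη hne => ?_⟩
      obtain ⟨lam₀, rfl⟩ := hlin η₀ hη₀
      obtain ⟨lam, rfl⟩ := hlin η hη
      rw [← hM]
      refine key lam lam₀ (fun h => hne ?_) (fun h => hne₀ ?_)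
      · funext a; simp [h, hone]
      · funext a; simp [h, hone]
    · exact ⟨0, fun η hη hne => absurd ⟨η, hη, hne⟩ hex⟩
  refine ⟨(k₁ : ℤ) - M, fun y hy hy1 => ?_⟩
  have hexp := congrFun (eq_sum_irr (IsCharacter.isClassFunction hrch)) ⟨y, hy⟩
  rw [Finset.sum_apply] at hexp
  have horth := sum_irr_mul_conj (⟨y, hy⟩ : c.A) 1
  rw [if_neg (fun h => hy1 (congrArg Subtype.val (isConj_one_left.1 h)))] at horth
  have hdeg : ∀ η ∈ irrFinset c.A, η ⟨y, hy⟩ * conj (η 1) = η ⟨y, hy⟩ := by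
    intro η hη
    rw [IsIrrCharacter.apply_one_eq_one (mem_irrFinset.1 hη) (fun a b => mul_comm a b), map_one, mul_one]
  rw [Finset.sum_congr rfl hdeg] at horth
  have hone_mem : one ∈ irrFinset c.A := mem_irrFinset.2 isIrrCharacter_one
  rw [← Finset.add_sum_erase _ _ hone_mem] at horth hexp
  rw [Finset.sum_congr rfl (g := fun η => (M : ℂ) * η ⟨y, hy⟩) (fun η hη => by
    rw [Finset.mem_erase] at hη
    rw [Pi.smul_apply, smul_eq_mul, hM η hη.2 hη.1]), ← Finset.mul_sum] at hexp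
  rw [Pi.smul_apply, smul_eq_mul, hk₁] at hexp
  have hs : ∑ η ∈ (irrFinset c.A).erase one, η ⟨y, hy⟩ = -1 := by
    have h1 : one ⟨y, hy⟩ = 1 := rfl
    rw [h1] at horth
    linear_combination horth
  show r ⟨y, hy⟩ = _
  rw [hexp, hs]
  simp [hone]
  ring

omit [IsSimpleGroup G] in
/-- The configuration forces all relevant characters to be scalar at `x`. -/
theorem false_of_config_gen (hA : 1 < Nat.card c.A) (hpp : ¬ IsPrimePow (Nat.card c.A)) {e : ℕ}
    (he : e = c.A.relIndex c.N)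
    (hprod : ∀ y ∈ c.A, y ≠ 1 → ∀ g : G, g * (c.x * y) * g⁻¹ ∉ c.A)
    (hstrict : ∀ y ∈ c.A, y ≠ 1 →
      (∀ χ : G → ℂ, Cfsg.IsIrrCharacter G χ → χ c.x ≠ 0 → χ y ≠ 0 → ‖χ c.x‖ = (χ 1).re) →
      (∀ χ : G → ℂ, Cfsg.IsIrrCharacter G χ → χ c.x ≠ 0 → ∃ n : ℤ, ∀ z ∈ c.A, z ≠ 1 → χ z = n) →
      Nat.card (Subgroup.centralizer ({c.x * y} : Set G)) ≤ e → False)
    (hbig : ∀ g : G, g ≠ 1 → (∀ k : G, k * g * k⁻¹ ∉ c.A) →
      e ≤ Nat.card (Subgroup.centralizer ({g} : Set G))) : False := by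
  classical
  obtain ⟨p, hp, hpd⟩ := Nat.exists_prime_and_dvd (n := Nat.card c.A) (by omega)
  haveI := Fact.mk hp
  obtain ⟨y₀, hy₀⟩ := exists_prime_orderOf_dvd_card' (G := c.A) p hpd
  have hy₀1 : (y₀ : G) ≠ 1 := fun h => hp.one_lt.ne' (by
    rw [← hy₀, show y₀ = 1 from Subtype.ext h, orderOf_one])
  have hconjN : ∀ y ∈ c.A, y ≠ 1 → ∀ y' ∈ c.A, IsConj y y' → ∃ n ∈ c.N, n * y * n⁻¹ = y' := by
    intro y hy hy1 y' hy' h
    obtain ⟨n, hn⟩ := isConj_iff.1 h
    exact ⟨n, c.ti hy hy1 (hn ▸ hy'), hn⟩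
  -- conjugates in `A` correspond to cosets of `A` in `N`
  let Y := {a : c.A // (a : G) ≠ 1}
  have hconjcard : ∀ y : Y, Nat.card {z : Y // IsConj (y.1 : G) (z.1 : G)} = e := by
    intro y
    have hmem : ∀ n : c.N, (n : G) * (y.1 : G) * (n : G)⁻¹ ∈ c.A := fun n =>
      (Subgroup.mem_normalizer_iff.1 n.2 _).1 y.1.2
    let f : c.N ⧸ c.A.subgroupOf c.N → {z : Y // IsConj (y.1 : G) (z.1 : G)} :=
      Quotient.lift (fun n : c.N => ⟨⟨⟨_, hmem n⟩, fun h => y.2 (conj_eq_one_iff.1 h)⟩,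
        isConj_iff.2 ⟨n, rfl⟩⟩) (fun n n' h => by
        have h' : n⁻¹ * n' ∈ c.A.subgroupOf c.N := QuotientGroup.leftRel_apply.1 h
        rw [Subgroup.mem_subgroupOf] at h'
        push_cast at h'
        refine Subtype.ext (Subtype.ext (Subtype.ext ?_))
        show (n : G) * (y.1 : G) * (n : G)⁻¹ = (n' : G) * (y.1 : G) * (n' : G)⁻¹
        symm
        calc (n' : G) * (y.1 : G) * (n' : G)⁻¹
            = (n : G) * (((n : G)⁻¹ * n') * y.1) * (n' : G)⁻¹ := by group
          _ = (n : G) * ((y.1 : G) * ((n : G)⁻¹ * n')) * (n' : G)⁻¹ := by rw [c.comm _ h' _ y.1.2]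
          _ = _ := by group)
    have hbij : Function.Bijective f := by
      constructor
      · intro a b
        induction a using QuotientGroup.induction_on with
        | H n =>
          induction b using QuotientGroup.induction_on with
          | H n' =>
            intro h
            have h' : (n : G) * (y.1 : G) * (n : G)⁻¹ = (n' : G) * (y.1 : G) * (n' : G)⁻¹ :=
              congrArg (fun z => ((z.1.1 : c.A) : G)) h
            rw [QuotientGroup.eq, Subgroup.mem_subgroupOf]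
            push_cast
            rw [← c.self _ y.1.2 y.2, Subgroup.mem_centralizer_singleton_iff]
            calc (n : G)⁻¹ * n' * y.1 = (n : G)⁻¹ * ((n' : G) * y.1 * (n' : G)⁻¹) * n' := by group
              _ = (n : G)⁻¹ * ((n : G) * y.1 * (n : G)⁻¹) * n' := by rw [h']
              _ = (y.1 : G) * ((n : G)⁻¹ * n') := by group
      · rintro ⟨z, hz⟩
        obtain ⟨n, hn, hnz⟩ := hconjN _ y.1.2 y.2 _ z.1.2 hz
        exact ⟨QuotientGroup.mk ⟨n, hn⟩, Subtype.ext (Subtype.ext (Subtype.ext hnz))⟩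
    rw [← Nat.card_eq_of_bijective f hbij, ← Subgroup.index_eq_card, he]
    rfl
  have hYcard : Nat.card Y = Nat.card c.A - 1 := by
    rw [Nat.card_eq_fintype_card, Nat.card_eq_fintype_card, Fintype.card_subtype_compl]
    have : Fintype.card {a : c.A // (a : G) = 1} = 1 :=
      Fintype.card_eq_one_iff.2 ⟨⟨1, rfl⟩, fun a => Subtype.ext (Subtype.ext a.2)⟩
    rw [this]
  -- `e < |A| - 1`
  have helt : e < Nat.card c.A - 1 := by
    have hle : e ≤ Nat.card c.A - 1 := by
      rw [← hconjcard ⟨y₀, hy₀1⟩, ← hYcard]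
      exact Nat.card_le_card_of_injective _ Subtype.val_injective
    rcases hle.lt_or_eq with h | h
    · exact h
    exfalso
    apply hpp
    have hall : ∀ z : Y, IsConj (y₀ : G) (z.1 : G) := by
      intro z
      by_contra hz
      have := Finite.card_subtype_lt (p := fun w : Y => IsConj (y₀ : G) (w.1 : G)) hz
      rw [hconjcard ⟨y₀, hy₀1⟩, hYcard, h] at this
      exact lt_irrefl _ this
    have hpg : IsPGroup p c.A := by
      intro a
      by_cases ha : (a : G) = 1
      · exact ⟨0, Subtype.ext (by simpa using ha)⟩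
      obtain ⟨k, hk⟩ := isConj_iff.1 (hall ⟨a, ha⟩)
      refine ⟨1, Subtype.ext ?_⟩
      push_cast
      rw [pow_one, ← hk, conj_pow, show ((y₀ : G)) ^ p = 1 by
        rw [← hy₀, ← Subgroup.orderOf_coe, pow_orderOf_eq_one]]
      group
    obtain ⟨k, hk⟩ := IsPGroup.iff_card.1 hpg
    rcases Nat.eq_zero_or_pos k with rfl | hk0
    · rw [pow_zero] at hk; omega
    · exact ⟨p, k, hp.prime, hk0, hk.symm⟩
  -- the characters not vanishing at `x`
  set T := (irrFinset G).filter fun χ => χ c.x ≠ 0 with hT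
  have hTc : ∀ χ ∈ T, ∃ n : ℤ, ∀ y ∈ c.A, y ≠ 1 → χ y = n := fun χ hχ =>
    c.const_on hprod hA (mem_irrFinset.1 (Finset.mem_filter.1 hχ).1) (Finset.mem_filter.1 hχ).2
  choose! n hn using hTc
  -- Bessel
  set a := Nat.card c.A with ha
  have hbessel : ((a : ℝ) - 1) * ∑ χ ∈ T, (n χ : ℝ) ^ 2 ≤ a * e := by
    set S : (G → ℂ) → ℂ := fun χ => ∑ z : Y, χ (z.1 : G) with hS
    have htot : ∑ χ ∈ irrFinset G, ‖S χ‖ ^ 2 = ((a : ℝ) - 1) * e * a := by
      have h : ∑ χ ∈ irrFinset G, S χ * conj (S χ) = ((((a : ℝ) - 1) * e * a : ℝ) : ℂ) := by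
        have h1 : ∀ χ : G → ℂ, S χ * conj (S χ) = ∑ z : Y, ∑ w : Y, χ (z.1 : G) * conj (χ (w.1 : G)) := by
          intro χ; simp only [hS, map_sum]; rw [Finset.sum_mul]; simp only [Finset.mul_sum]
        simp only [h1]
        rw [Finset.sum_comm]
        simp only [Finset.sum_comm (s := irrFinset G), sum_irr_mul_conj]
        rw [Finset.sum_congr rfl (g := fun _ => ((e * a : ℕ) : ℂ)) (fun z _ => by
          rw [← Finset.sum_filter, Finset.sum_const, nsmul_eq_mul, c.self _ z.1.2 z.2, ← ha,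
            ← Fintype.card_subtype, ← Nat.card_eq_fintype_card, hconjcard z]
          push_cast; ring)]
        rw [Finset.sum_const, Finset.card_univ, ← Nat.card_eq_fintype_card, hYcard, nsmul_eq_mul]
        push_cast [Nat.cast_sub (show 1 ≤ a by omega)]
        ring
      simp only [Complex.mul_conj'] at h
      exact_mod_cast h
    have hSval : ∀ χ ∈ T, ‖S χ‖ ^ 2 = ((a : ℝ) - 1) ^ 2 * (n χ : ℝ) ^ 2 := by
      intro χ hχ
      have : S χ = ((((a : ℝ) - 1) * (n χ : ℝ) : ℝ) : ℂ) := by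
        simp only [hS]
        rw [Finset.sum_congr rfl (fun (z : Y) _ => hn χ hχ _ z.1.2 z.2), Finset.sum_const,
          Finset.card_univ, ← Nat.card_eq_fintype_card, hYcard, nsmul_eq_mul]
        push_cast [Nat.cast_sub (show 1 ≤ a by omega)]
        ring
      rw [this, Complex.norm_real, Real.norm_eq_abs, sq_abs]; ring
    have hle : ∑ χ ∈ T, ‖S χ‖ ^ 2 ≤ ∑ χ ∈ irrFinset G, ‖S χ‖ ^ 2 :=
      Finset.sum_le_sum_of_subset_of_nonneg (Finset.filter_subset _ _) fun χ _ _ => by positivity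
    rw [Finset.sum_congr rfl hSval, ← Finset.mul_sum, htot] at hle
    have hpos : (0 : ℝ) < (a : ℝ) - 1 := by
      have : (1 : ℝ) < (a : ℝ) := by exact_mod_cast hA
      linarith
    refine le_of_mul_le_mul_left ?_ hpos
    nlinarith [hle]
  have hint : ∑ χ ∈ T, (n χ) ^ 2 ≤ (e : ℤ) := by
    by_contra hgt
    push Not at hgt
    have h1 : (e : ℤ) + 1 ≤ ∑ χ ∈ T, (n χ) ^ 2 := hgt
    have h2 : ((e : ℝ) + 1) ≤ ∑ χ ∈ T, (n χ : ℝ) ^ 2 := by exact_mod_cast h1
    have h3 : (0 : ℝ) ≤ (a : ℝ) - 1 := by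
      have : (1 : ℝ) < (a : ℝ) := by exact_mod_cast hA
      linarith
    have h4 := mul_le_mul_of_nonneg_left h2 h3
    have h5 : (e : ℝ) + 1 < (a : ℝ) := by
      have : e + 1 < a := by omega
      exact_mod_cast this
    nlinarith [hbessel, h4]
  -- evaluate at `h = x y`
  set y : G := (y₀ : G) with hy
  set h := c.x * y with hh
  have hC := hbig h (c.prod_ne_one y₀.2) (hprod _ y₀.2 hy₀1)
  have hsum : ∑ χ ∈ T, ‖χ h‖ ^ 2 = (Nat.card (Subgroup.centralizer ({h} : Set G)) : ℝ) := by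
    rw [← sum_norm_sq h]
    refine Finset.sum_subset (Finset.filter_subset _ _) fun χ hχ hnT => ?_
    have hx0 : χ c.x = 0 := by
      by_contra h0; exact hnT (Finset.mem_filter.2 ⟨hχ, h0⟩)
    rw [(c.term_le (mem_irrFinset.1 hχ) y₀.2).1, hx0]
    simp
  have hterm : ∀ χ ∈ T, ‖χ h‖ ^ 2 = (‖χ c.x‖ / (χ 1).re) ^ 2 * (n χ : ℝ) ^ 2 := by
    intro χ hχ
    rw [(c.term_le (mem_irrFinset.1 (Finset.mem_filter.1 hχ).1) y₀.2).1, hn χ hχ y y₀.2 hy₀1]
    simp
  have hone : (fun _ : G => (1 : ℂ)) ∈ T := Finset.mem_filter.2 ⟨mem_irrFinset.2 isIrrCharacter_one, by simp⟩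
  rw [Finset.sum_congr rfl hterm] at hsum
  have hle : ∀ χ ∈ T, (‖χ c.x‖ / (χ 1).re) ^ 2 * (n χ : ℝ) ^ 2 ≤ (n χ : ℝ) ^ 2 := by
    intro χ hχ
    refine mul_le_of_le_one_left (by positivity) ?_
    have hp := (c.term_le (mem_irrFinset.1 (Finset.mem_filter.1 hχ).1) y₀.2).2
    rw [sq_le_one_iff₀ (by positivity), div_le_one hp]
    exact IsCharacter.norm_apply_le (IsIrrCharacter.isCharacter (mem_irrFinset.1 (Finset.mem_filter.1 hχ).1)) c.x
  have he' : (e : ℝ) ≤ (Nat.card (Subgroup.centralizer ({h} : Set G)) : ℝ) := by exact_mod_cast hC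
  have hint' : ∑ χ ∈ T, (n χ : ℝ) ^ 2 ≤ (e : ℝ) := by exact_mod_cast hint
  have hnorm' : ∀ χ : G → ℂ, Cfsg.IsIrrCharacter G χ → χ c.x ≠ 0 → χ y ≠ 0 → ‖χ c.x‖ = (χ 1).re := by
    intro χ hirr hx0 hy0
    refine le_antisymm (IsCharacter.norm_apply_le (IsIrrCharacter.isCharacter hirr) c.x) (le_of_not_gt fun hlt0 => ?_)
    have hχ : χ ∈ T := Finset.mem_filter.2 ⟨mem_irrFinset.2 hirr, hx0⟩
    have hnχ : n χ ≠ 0 := fun h0 => hy0 (by rw [hn χ hχ y y₀.2 hy₀1, h0, Int.cast_zero])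
    have hlt : (‖χ c.x‖ / (χ 1).re) ^ 2 * (n χ : ℝ) ^ 2 < (n χ : ℝ) ^ 2 := by
      refine mul_lt_of_lt_one_left (by positivity) ?_
      have hp := (c.term_le hirr y₀.2).2
      rw [sq_lt_one_iff₀ (by positivity), div_lt_one hp]
      exact hlt0
    have := Finset.sum_lt_sum hle ⟨χ, hχ, hlt⟩
    linarith
  refine hstrict y y₀.2 hy₀1 hnorm' (fun χ hirr hx0 => ⟨n χ, fun z hz hz1 =>
    hn χ (Finset.mem_filter.2 ⟨mem_irrFinset.2 hirr, hx0⟩) z hz hz1⟩) ?_
  have h1 : (Nat.card (Subgroup.centralizer ({c.x * y} : Set G)) : ℝ) ≤ (e : ℝ) := by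
    have := Finset.sum_le_sum hle
    linarith
  exact_mod_cast h1

include hna in
/-- The configuration is impossible. -/
theorem false_of_config (hA : 1 < Nat.card c.A) (hpp : ¬ IsPrimePow (Nat.card c.A)) {e : ℕ}
    (he : e = c.A.relIndex c.N) (_he1 : 1 < e)
    (hbig : ∀ g : G, g ≠ 1 → (∀ k : G, k * g * k⁻¹ ∉ c.A) →
      e ≤ Nat.card (Subgroup.centralizer ({g} : Set G))) : False := by
  classical
  refine c.false_of_config_gen hA hpp he (fun y hy hy1 g => c.prod_not_mem hna hA hy hy1 g)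
    (fun y hy hy1 hnorm _ _ => ?_) hbig
  have h1 := sum_norm_sq (c.x * y)
  rw [Finset.sum_eq_single (fun _ => (1 : ℂ))
    (fun χ hχ hne => by
      have hirr := mem_irrFinset.1 hχ
      rw [(c.term_le hirr hy).1]
      by_cases hx0 : χ c.x = 0
      · rw [hx0]; simp
      by_cases hy0 : χ y = 0
      · rw [hy0]; simp
      exact absurd (hnorm χ hirr hx0 hy0) (norm_lt hna hirr hne c.x_ne_one).ne)
    (fun h => absurd (mem_irrFinset.2 isIrrCharacter_one) h)] at h1
  simp only [norm_one, one_pow] at h1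
  have h3 : Nat.card (Subgroup.centralizer ({c.x * y} : Set G)) = 1 := by exact_mod_cast h1.symm
  exact c.prod_ne_one hy (Subgroup.mem_bot.1 (Subgroup.eq_bot_of_card_eq _ h3 ▸
    Subgroup.mem_centralizer_singleton_iff.2 rfl))

end Simple

end CoprimeConfig

end CfsgLib.ClassRank
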