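import Cfsg.Agent.ClassRank.Main
import Cfsg.Agent.S2202
import Cfsg.Agent.GLElem.PSL2Classes
import Cfsg.Agent.Classical.PSLTwoSub
import Cfsg.Agent.Invol.SmallSylow
import Cfsg.Agent.InvChar.OneSixtyEight
import Cfsg.Agent.SelfNormNonab.PSL

/-!
# Simple groups with three noncentral class sizes
-/

set_option autoImplicit false

namespace CfsgLib.ClassRank

open Subgroup

universe u

variable {G : Type u} [Group G] [Finite G]

/-- A simple group with three noncentral class sizes is `PSL(2, 2^n)`. -/
theorem psl_of_threeSizes [IsSimpleGroup G] (T : ThreeSizes G) :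
    ∃ (n : ℕ) (F : Type) (_ : Field F) (_ : Fintype F), 2 ≤ n ∧ Fintype.card F = 2 ^ n ∧
      Nonempty (G ≃* Matrix.ProjectiveSpecialLinearGroup (Fin 2) F) := by
  classical
  haveI : Fact (Nat.Prime 2) := ⟨Nat.prime_two⟩
  haveI : Nontrivial G := IsSimpleGroup.toNontrivial
  have heven := T.even_card
  have hs : ¬ Group.IsSolvable G := fun h => T.na (IsSimpleGroup.comm_iff_isSolvable.2 h)
  have hZ : center G = ⊥ := (IsSimpleGroup.eq_bot_or_eq_top_of_normal (center G) inferInstance).resolve_right
    fun h => T.na fun a b => (mem_center_iff.1 (h ▸ mem_top a : a ∈ center G) b).symm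
  rcases Cfsg.Agent.S2202.result heven T.abelian_involution_centralizer with
    h | h | ⟨F, iF, iFt, A, iA, iAf, hchar, -, ⟨eG⟩⟩
  · exfalso
    obtain ⟨P⟩ : Nonempty (Sylow 2 G) := inferInstance
    obtain ⟨H, hH⟩ := CfsgLib.SmallSylow.exists_index_two_of_cyclic heven P (h P)
    haveI := Subgroup.normal_of_index_eq_two hH
    rcases IsSimpleGroup.eq_bot_or_eq_top_of_normal H inferInstance with e | e
    · rw [e, index_bot] at hH
      haveI : IsCyclic G := isCyclic_of_prime_card (p := 2) hH
      exact T.na fun a b => IsCyclic.commGroup.mul_comm a b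
    · rw [e, index_top] at hH
      omega
  · exfalso
    obtain ⟨P⟩ : Nonempty (Sylow 2 G) := inferInstance
    rcases IsSimpleGroup.eq_bot_or_eq_top_of_normal (P : Subgroup G) (h P) with e | e
    · exact P.ne_bot_of_dvd_card (even_iff_two_dvd.1 heven) e
    · obtain ⟨k, hk⟩ := IsPGroup.iff_card.1 P.2
      rw [e, card_top] at hk
      haveI := (IsPGroup.of_card (p := 2) (n := k) hk).isNilpotent
      exact hs inferInstance
  haveI : Subsingleton A := by
    refine ⟨fun x y => ?_⟩
    have key : ∀ w : A, w = 1 := by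
      intro w
      have hmem : eG.symm (1, w) ∈ center G := by
        rw [mem_center_iff]
        intro g
        obtain ⟨⟨s, v⟩, rfl⟩ := eG.symm.surjective g
        rw [← map_mul, ← map_mul]
        simp [mul_comm v w]
      rw [hZ, mem_bot, map_eq_one_iff eG.symm eG.symm.injective] at hmem
      exact congrArg Prod.snd hmem
    rw [key x, key y]
  haveI : Unique A := uniqueOfSubsingleton 1
  haveI := hchar
  obtain ⟨n, -, hn⟩ := FiniteField.card F 2
  have hc : center (Matrix.SpecialLinearGroup (Fin 2) F) = ⊥ := by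
    rw [eq_bot_iff]
    intro x hx
    have h1 : eG.symm (x, 1) ∈ center G := by
      rw [mem_center_iff]
      intro g
      obtain ⟨⟨s, v⟩, rfl⟩ := eG.symm.surjective g
      rw [← map_mul, ← map_mul]
      simp [mem_center_iff.1 hx s]
    rw [hZ, mem_bot, map_eq_one_iff eG.symm eG.symm.injective] at h1
    exact mem_bot.2 (congrArg Prod.fst h1)
  let eSL : Matrix.SpecialLinearGroup (Fin 2) F ≃* Matrix.ProjectiveSpecialLinearGroup (Fin 2) F :=
    ((QuotientGroup.quotientMulEquivOfEq hc).trans QuotientGroup.quotientBot).symm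
  have hn2 : 2 ≤ (n : ℕ) := by
    by_contra hlt
    have h1 : (n : ℕ) = 1 := by have := n.pos; omega
    apply hs
    rw [h1, pow_one] at hn
    have h6 : Nat.card G = 6 := by
      rw [Nat.card_congr eG.toEquiv, Nat.card_prod, Nat.card_unique (α := A), mul_one,
        Nat.card_congr eSL.toEquiv, CfsgLib.Linear.PSLTwo.card_eq, Nat.card_eq_fintype_card, hn]
      norm_num
    haveI : Fact (Nat.Prime 3) := ⟨Nat.prime_three⟩
    obtain ⟨x, hx⟩ := exists_prime_orderOf_dvd_card' (G := G) 3 (by rw [h6]; norm_num)
    have hi : (zpowers x).index = 2 := by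
      have := (zpowers x).index_mul_card
      rw [Nat.card_zpowers, hx, h6] at this
      omega
    haveI := Subgroup.normal_of_index_eq_two hi
    rcases IsSimpleGroup.eq_bot_or_eq_top_of_normal (zpowers x) inferInstance with e | e
    · rw [zpowers_eq_bot] at e; rw [e, orderOf_one] at hx; omega
    · rw [e, index_top] at hi; omega
  exact ⟨n, F, iF, iFt, hn2, hn, ⟨(eG.trans MulEquiv.prodUnique).trans eSL⟩⟩

/-- `PSL(2, q)` for even `q ≥ 4` has exactly three noncentral class sizes. -/
theorem ncard_psl {F : Type*} [Field F] [Fintype F] (h2 : 2 ∣ Fintype.card F) (h4 : 4 ≤ Fintype.card F)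
    (e : G ≃* Matrix.ProjectiveSpecialLinearGroup (Fin 2) F) :
    IsSimpleGroup G ∧ ¬ IsMulCommutative G ∧
      Set.ncard {m : ℕ | ∃ x : G, x ∉ center G ∧ m = (centralizer ({x} : Set G)).index} = 3 := by
  classical
  haveI hS := CfsgLib.Linear.PSLTwo.isSimple (F := F) (by rw [Nat.card_eq_fintype_card]; exact h4)
  haveI hG : IsSimpleGroup G := e.isSimpleGroup_congr.2 hS
  have hconj : ∀ x : G, (centralizer ({x} : Set G)).index =
      (centralizer ({e x} : Set (Matrix.ProjectiveSpecialLinearGroup (Fin 2) F))).index := by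
    intro x
    rw [← index_map_equiv (centralizer ({x} : Set G)) e]
    congr 1
    ext w
    erw [mem_map_equiv]
    rw [mem_centralizer_singleton_iff, mem_centralizer_singleton_iff,
      ← e.injective.eq_iff, map_mul, map_mul, MulEquiv.apply_symm_apply]
  have hr := CfsgLib.PSL2Classes.range_even (F := F) h2 h4
  set q := Fintype.card F with hq
  have hb : q ^ 2 - 1 + 1 = q * q := by
    rw [pow_two]; have : 16 ≤ q * q := Nat.mul_le_mul h4 h4; omega
  have hq1 : q * (q - 1) + q = q * q := by
    rw [Nat.mul_sub, mul_one]; have : q ≤ q * q := Nat.le_mul_of_pos_left q (by omega); omega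
  have hq3 : q * (q + 1) = q * q + q := by ring
  have h4q : 4 * q ≤ q * q := Nat.mul_le_mul_right q h4
  have hna : ¬ IsMulCommutative G := by
    intro h
    have : (q * (q + 1)) ∈ Set.range (fun g : Matrix.ProjectiveSpecialLinearGroup (Fin 2) F =>
        (centralizer ({g} : Set (Matrix.ProjectiveSpecialLinearGroup (Fin 2) F))).index) := by
      rw [hr]; simp
    obtain ⟨g, hg⟩ := this
    have h1 : centralizer ({g} : Set (Matrix.ProjectiveSpecialLinearGroup (Fin 2) F)) = ⊤ := by
      rw [eq_top_iff]
      intro w _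
      rw [mem_centralizer_singleton_iff]
      apply e.symm.injective
      rw [map_mul, map_mul]
      exact mul_comm' _ _
    simp only [h1, index_top] at hg
    omega
  refine ⟨hG, hna, ?_⟩
  have hZ : center G = ⊥ := (IsSimpleGroup.eq_bot_or_eq_top_of_normal (center G) inferInstance).resolve_right
    fun h => hna ⟨⟨fun a b => (mem_center_iff.1 (h ▸ mem_top a : a ∈ center G) b).symm⟩⟩
  have hone : ∀ x : G, (centralizer ({x} : Set G)).index = 1 ↔ x ∈ center G := by
    intro x
    rw [index_eq_one, eq_top_iff, mem_center_iff]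
    exact ⟨fun h w => mem_centralizer_singleton_iff.1 (h (mem_top w)),
      fun h w _ => mem_centralizer_singleton_iff.2 (h w)⟩
  have hset : {m : ℕ | ∃ x : G, x ∉ center G ∧ m = (centralizer ({x} : Set G)).index} =
      {q * (q - 1), q ^ 2 - 1, q * (q + 1)} := by
    ext m
    simp only [Set.mem_setOf_eq, Set.mem_insert_iff, Set.mem_singleton_iff]
    constructor
    · rintro ⟨x, hx, rfl⟩
      have : (centralizer ({x} : Set G)).index ∈ ({1, q * (q - 1), q ^ 2 - 1, q * (q + 1)} : Set ℕ) := by
        rw [← hr, hconj]; exact ⟨e x, rfl⟩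
      simp only [Set.mem_insert_iff, Set.mem_singleton_iff] at this
      exact this.resolve_left fun h => hx ((hone x).1 h)
    · intro hm
      have : m ∈ Set.range (fun g : Matrix.ProjectiveSpecialLinearGroup (Fin 2) F =>
          (centralizer ({g} : Set (Matrix.ProjectiveSpecialLinearGroup (Fin 2) F))).index) := by
        rw [hr]; simp only [Set.mem_insert_iff, Set.mem_singleton_iff]; exact Or.inr hm
      obtain ⟨g, hg⟩ := this
      have h' : (centralizer ({e.symm g} : Set G)).index = m := by
        rw [hconj, MulEquiv.apply_symm_apply]; exact hg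
      refine ⟨e.symm g, fun hc => ?_, h'.symm⟩
      have := (hone _).2 hc
      omega
  rw [hset]
  rw [Set.ncard_eq_three]
  exact ⟨q * (q - 1), q ^ 2 - 1, q * (q + 1), by omega, by omega, by omega, rfl⟩

end CfsgLib.ClassRank
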