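import Cfsg.Agent.ClassRank.Coprime
import Cfsg.Agent.OddLocal.CNSolvable
import Cfsg.Agent.Solvable.FpfComplement
import Cfsg.Agent.Transfer.Basic
import Cfsg.Agent.Solvable.Schmidt
import Cfsg.Agent.Char.CNTheorem

/-!
# Simple groups with three noncentral class sizes: involution centralisers are abelian
-/

set_option autoImplicit false

namespace CfsgLib.ClassRank

open Subgroup

universe u

variable {G : Type u} [Group G] [Finite G]

/-- The size of the class of `x`. -/
noncomputable abbrev cs (x : G) : ℕ := (centralizer ({x} : Set G)).index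

omit [Finite G] in
theorem cs_mul (x : G) : Nat.card (centralizer ({x} : Set G)) * cs x = Nat.card G :=
  (centralizer ({x} : Set G)).card_mul_index

omit [Finite G] in
theorem centralizer_le_pow (x : G) (k : ℕ) :
    centralizer ({x} : Set G) ≤ centralizer ({x ^ k} : Set G) := fun w hw =>
  mem_centralizer_singleton_iff.2
    (Commute.pow_right (mem_centralizer_singleton_iff.1 hw) k).eq

theorem cs_pow_dvd (x : G) (k : ℕ) : cs (x ^ k) ∣ cs x := index_dvd_of_le (centralizer_le_pow x k)

theorem centralizer_mul_of_coprime {x y : G} (h : Commute x y) (hc : (orderOf x).Coprime (orderOf y)) :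
    centralizer ({x * y} : Set G) = centralizer ({x} : Set G) ⊓ centralizer ({y} : Set G) := by
  refine le_antisymm ?_ fun w hw => mem_centralizer_singleton_iff.2
    (Commute.mul_right (mem_centralizer_singleton_iff.1 hw.1)
      (mem_centralizer_singleton_iff.1 hw.2)).eq
  have key : ∀ {x y : G}, Commute x y → (orderOf x).Coprime (orderOf y) →
      centralizer ({x * y} : Set G) ≤ centralizer ({x} : Set G) := by
    intro x y h hc
    obtain ⟨k, hk⟩ : ∃ k : ℕ, (x * y) ^ k = x := by
      obtain ⟨k, hk1, hk2⟩ := Nat.chineseRemainder hc 1 0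
      refine ⟨k, ?_⟩
      rw [h.mul_pow, ← pow_mod_orderOf x, ← pow_mod_orderOf y, hk1, hk2, pow_mod_orderOf,
        pow_mod_orderOf, pow_one, pow_zero, mul_one]
    have := centralizer_le_pow (x * y) k
    rwa [hk] at this
  refine le_inf (key h hc) ?_
  rw [h.eq]
  exact key h.symm hc.symm

/-- Every nontrivial element has a power of prime order. -/
theorem exists_pow_prime {x : G} (hx : x ≠ 1) : ∃ k : ℕ, (orderOf (x ^ k)).Prime := by
  obtain ⟨p, hp, hpd⟩ := Nat.exists_prime_and_dvd (n := orderOf x) (fun h => hx (orderOf_eq_one_iff.1 h))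
  refine ⟨orderOf x / p, ?_⟩
  have : orderOf (x ^ (orderOf x / p)) = p := by
    rw [orderOf_pow_orderOf_div (orderOf_pos x).ne' hpd]
  rw [this]; exact hp

/-- Coprime indices give a factorisation. -/
theorem exists_mul_of_coprime_index (H K : Subgroup G) (h : H.index.Coprime K.index) (g : G) :
    ∃ a ∈ H, ∃ b ∈ K, g = a * b := by
  have hK : H.relIndex K = H.index := by
    have h1 : (H ⊓ K).index = H.relIndex K * K.index := by
      rw [← inf_relIndex_right, relIndex_mul_index inf_le_right]
    have h2 : H.index ∣ (H ⊓ K).index := index_dvd_of_le inf_le_left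
    rw [h1] at h2
    have h3 : H.index ∣ H.relIndex K := h.dvd_of_dvd_mul_right h2
    have h4 : 0 < H.relIndex K := Nat.pos_of_ne_zero (by
      intro h0
      exact (H.subgroupOf K).index_ne_zero_of_finite h0)
    refine le_antisymm ?_ (Nat.le_of_dvd h4 h3)
    refine Nat.le_of_mul_le_mul_right ?_ (Nat.pos_of_ne_zero K.index_ne_zero_of_finite)
    rw [← h1]; exact index_inf_le
  -- the orbit of `H` under `K` is everything
  let f : K ⧸ H.subgroupOf K → G ⧸ H := Quotient.lift (fun k : K => ((k : G) : G ⧸ H)) (fun k k' hk => by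
    have h' : k⁻¹ * k' ∈ H.subgroupOf K := QuotientGroup.leftRel_apply.1 hk
    exact QuotientGroup.eq.2 (mem_subgroupOf.1 h'))
  have hinj : Function.Injective f := by
    intro a b
    induction a using QuotientGroup.induction_on with
    | H k =>
      induction b using QuotientGroup.induction_on with
      | H k' =>
        intro hab
        have h' : ((k : G) : G ⧸ H) = ((k' : G) : G ⧸ H) := hab
        rw [QuotientGroup.eq] at h' ⊢
        exact h'
  have hsur : Function.Surjective f := by
    haveI := Fintype.ofFinite (K ⧸ H.subgroupOf K)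
    haveI := Fintype.ofFinite (G ⧸ H)
    exact ((Fintype.bijective_iff_injective_and_card f).2 ⟨hinj, by
      rw [← Nat.card_eq_fintype_card, ← Nat.card_eq_fintype_card, ← index_eq_card, ← index_eq_card]
      exact hK⟩).2
  obtain ⟨q, hq⟩ := hsur ((g⁻¹ : G) : G ⧸ H)
  induction q using QuotientGroup.induction_on with
  | H k =>
    have h' : ((k : G) : G ⧸ H) = ((g⁻¹ : G) : G ⧸ H) := hq
    rw [QuotientGroup.eq] at h'
    refine ⟨((k : G)⁻¹ * g⁻¹)⁻¹, H.inv_mem h', (k : G)⁻¹, K.inv_mem k.2, by group⟩

/-- In a subgroup generated by elements of prime power order, being central can be checked on them. -/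
theorem le_centralizer_of_prime_pow (H : Subgroup G) (v : G)
    (h : ∀ (r : ℕ) (w : G), r.Prime → w ∈ H → (∃ k, orderOf w = r ^ k) → Commute v w) :
    H ≤ centralizer ({v} : Set G) := by
  intro w hw
  induction hn : orderOf w using Nat.strong_induction_on generalizing w with
  | _ n ih =>
    by_cases h1 : orderOf w = 1
    · rw [orderOf_eq_one_iff.1 h1]; exact one_mem _
    obtain ⟨r, hr, hrd⟩ := Nat.exists_prime_and_dvd h1
    obtain ⟨k, m, hm, hkm⟩ := Nat.exists_eq_pow_mul_and_not_dvd (orderOf_pos w).ne' r hr.ne_one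
    by_cases hm1 : m = 1
    · rw [mem_centralizer_singleton_iff]
      exact (h r w hr hw ⟨k, by rw [hkm, hm1, mul_one]⟩).symm.eq
    -- split off the `r`-part
    have hcop : (r ^ k).Coprime m := (hr.coprime_iff_not_dvd.2 hm).pow_left k
    obtain ⟨i, hi1, hi2⟩ := Nat.chineseRemainder hcop 1 0
    obtain ⟨j, hj1, hj2⟩ := Nat.chineseRemainder hcop 0 1
    have hmod : i + j ≡ 1 [MOD r ^ k * m] :=
      (Nat.modEq_and_modEq_iff_modEq_mul hcop).1 ⟨by simpa using hi1.add hj1, by simpa using hi2.add hj2⟩
    have hsplit : w = w ^ i * w ^ j := by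
      rw [← pow_add, ← pow_mod_orderOf, hkm, hmod, ← hkm, pow_mod_orderOf, pow_one]
    have hk0 : k ≠ 0 := fun h0 => hm (by rw [h0, pow_zero, one_mul] at hkm; exact hkm ▸ hrd)
    have hA : orderOf (w ^ i) ∣ r ^ k := by
      refine orderOf_dvd_of_pow_eq_one ?_
      obtain ⟨c, hc⟩ := (Nat.modEq_zero_iff_dvd.1 hi2)
      rw [← pow_mul, hc, show m * c * r ^ k = (r ^ k * m) * c by ring, ← hkm, pow_mul,
        pow_orderOf_eq_one, one_pow]
    have hB : orderOf (w ^ j) ∣ m := by
      refine orderOf_dvd_of_pow_eq_one ?_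
      obtain ⟨c, hc⟩ := (Nat.modEq_zero_iff_dvd.1 hj1)
      rw [← pow_mul, hc, show r ^ k * c * m = (r ^ k * m) * c by ring, ← hkm, pow_mul,
        pow_orderOf_eq_one, one_pow]
    have hpos : 0 < m := Nat.pos_of_ne_zero fun h0 => hm (h0 ▸ dvd_zero r)
    have h2 : 2 ≤ r ^ k := le_trans hr.two_le (Nat.le_self_pow hk0 r)
    rw [hsplit]
    refine mul_mem (ih (orderOf (w ^ i)) ?_ (H.pow_mem hw i) rfl) (ih (orderOf (w ^ j)) ?_ (H.pow_mem hw j) rfl)
    · rw [← hn, hkm]
      calc orderOf (w ^ i) ≤ r ^ k := Nat.le_of_dvd (by omega) hA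
        _ < r ^ k * m := lt_mul_of_one_lt_right (by omega) (by omega)
    · rw [← hn, hkm]
      calc orderOf (w ^ j) ≤ m := Nat.le_of_dvd hpos hB
        _ < r ^ k * m := lt_mul_of_one_lt_left hpos (by omega)

/-- A Sylow subgroup has a central element of order `p`. -/
theorem exists_central {p : ℕ} [Fact p.Prime] (P : Sylow p G) (hp : p ∣ Nat.card G) :
    ∃ z : G, z ∈ (P : Subgroup G) ∧ orderOf z = p ∧ (P : Subgroup G) ≤ centralizer ({z} : Set G) := by
  haveI : Nontrivial (P : Subgroup G) := (nontrivial_iff_ne_bot _).2 (P.ne_bot_of_dvd_card hp)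
  haveI := IsPGroup.center_nontrivial P.2
  obtain ⟨k, hk⟩ := IsPGroup.iff_card.1 (P.2.to_subgroup (center (P : Subgroup G)))
  have hdvd : p ∣ Nat.card (center (P : Subgroup G)) := by
    rw [hk]
    refine dvd_pow_self p fun h => ?_
    rw [h, pow_zero] at hk
    have := Finite.one_lt_card (α := center (P : Subgroup G))
    omega
  obtain ⟨⟨z, hzc⟩, hz⟩ := exists_prime_orderOf_dvd_card' (G := center (P : Subgroup G)) p hdvd
  refine ⟨(z : G), z.2, ?_, fun s hs =>
    mem_centralizer_singleton_iff.2 (congrArg Subtype.val (mem_center_iff.1 hzc ⟨s, hs⟩))⟩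
  exact ((Subgroup.orderOf_coe z).trans (Subgroup.orderOf_coe (⟨z, hzc⟩ : center (P : Subgroup G)))).trans hz

variable [IsSimpleGroup G]

/-- The hypotheses: a non-abelian simple group and the sizes of its nontrivial classes. -/
structure ThreeSizes (G : Type u) [Group G] where
  sizes : Set ℕ
  mem : ∀ x : G, x ≠ 1 → cs x ∈ sizes
  three : sizes.ncard = 3
  na : ¬ ∀ a b : G, a * b = b * a
  val : ∀ n ∈ sizes, ∃ x : G, x ≠ 1 ∧ cs x = n

namespace ThreeSizes

variable (T : ThreeSizes G)

include T

theorem not_pow {x : G} (hx : x ≠ 1) {p k : ℕ} (hp : p.Prime) : cs x ≠ p ^ k := by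
  intro h
  have hpr := CfsgLib.Char.prime_card_of_prime_pow_class hp hx h
  haveI := Fact.mk hpr
  haveI : IsCyclic G := isCyclic_of_prime_card rfl
  exact T.na (fun a b => IsCyclic.commGroup.mul_comm a b)

theorem cs_ne_one {x : G} (hx : x ≠ 1) : cs x ≠ 1 := fun h => T.not_pow hx Nat.prime_two (k := 0) (by simpa using h)

omit [IsSimpleGroup G] in
theorem two_dvd_card_of {t : G} (ht : orderOf t = 2) : 2 ∣ Nat.card G := ht ▸ orderOf_dvd_natCard t

theorem exists_not_dvd {p : ℕ} (hp : p.Prime) : ∃ x : G, x ≠ 1 ∧ ¬ p ∣ cs x := by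
  haveI := Fact.mk hp
  by_cases hd : p ∣ Nat.card G
  · obtain ⟨P⟩ : Nonempty (Sylow p G) := inferInstance
    obtain ⟨z, -, hz, hzc⟩ := exists_central P hd
    refine ⟨z, fun h => by rw [h, orderOf_one] at hz; exact hp.one_lt.ne hz, fun h => ?_⟩
    exact P.not_dvd_index (h.trans (index_dvd_of_le hzc))
  · haveI : Nontrivial G := IsSimpleGroup.toNontrivial
    obtain ⟨x, hx⟩ := exists_ne (1 : G)
    exact ⟨x, hx, fun h => hd (h.trans (index_dvd_card _))⟩

omit [IsSimpleGroup G] in
theorem free_heq (hfree : ∀ x y : G, x ≠ 1 → y ≠ 1 → cs x ∣ cs y → cs x = cs y) :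
    ∀ x y : G, x ≠ 1 → y ≠ 1 → centralizer ({x} : Set G) ≤ centralizer ({y} : Set G) →
      centralizer ({x} : Set G) = centralizer ({y} : Set G) := by
  intro x y hx hy hle
  refine Subgroup.eq_of_le_of_card_ge hle ?_
  have h1 := cs_mul x; have h2 := cs_mul y
  rw [hfree y x hy hx (index_dvd_of_le hle)] at h2
  exact le_of_eq (Nat.eq_of_mul_eq_mul_right (Nat.pos_of_ne_zero index_ne_zero_of_finite) (h2.trans h1.symm))

omit [IsSimpleGroup G] in
theorem free_hco (hfree : ∀ x y : G, x ≠ 1 → y ≠ 1 → cs x ∣ cs y → cs x = cs y) :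
    ∀ x y : G, x ≠ 1 → y ≠ 1 → Commute x y → (orderOf x).Coprime (orderOf y) →
      centralizer ({x} : Set G) = centralizer ({y} : Set G) := by
  have heq := T.free_heq hfree
  intro x y hx hy hxy hc
  have hne : x * y ≠ 1 := by
    intro h
    rw [eq_inv_of_mul_eq_one_left h, orderOf_inv, Nat.coprime_self] at hc
    exact hy (orderOf_eq_one_iff.1 hc)
  have h := centralizer_mul_of_coprime hxy hc
  rw [← heq _ x hne hx (h ▸ inf_le_left), heq _ y hne hy (h ▸ inf_le_right)]

omit [IsSimpleGroup G] in
/-- In the free case the centraliser of a `p`-element is a `p`-group or abelian. -/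
theorem free_abelian (hfree : ∀ x y : G, x ≠ 1 → y ≠ 1 → cs x ∣ cs y → cs x = cs y)
    (x : G) (p k : ℕ) (hp : p.Prime) (hx : x ≠ 1) (hxo : orderOf x = p ^ k)
    (hnp : ¬ IsPGroup p (centralizer ({x} : Set G))) : IsMulCommutative (centralizer ({x} : Set G)) := by
  have hco := T.free_hco hfree
  haveI := Fact.mk hp
  obtain ⟨w, hw, hwp⟩ : ∃ w ∈ centralizer ({x} : Set G), ∃ r : ℕ, r.Prime ∧ r ≠ p ∧ r ∣ orderOf w := by
    by_contra hno
    push Not at hno
    apply hnp
    intro w
    have hall : ∀ r : ℕ, r.Prime → r ∣ orderOf (w : G) → r = p := fun r hr hrd => by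
      by_contra hrp; exact hno w w.2 r hr hrp hrd
    exact ⟨(orderOf (w : G)).primeFactorsList.length, Subtype.ext (orderOf_dvd_iff_pow_eq_one.1 (dvd_of_eq
      (Nat.eq_prime_pow_of_unique_prime_dvd (orderOf_pos (w : G)).ne' (fun {r} hr hrd => hall r hr hrd))))⟩
  obtain ⟨r, hr, hrp, hrd⟩ := hwp
  set v := w ^ (orderOf w / r) with hv
  have hvo : orderOf v = r := orderOf_pow_orderOf_div (orderOf_pos w).ne' hrd
  have hv1 : v ≠ 1 := fun h => by rw [h, orderOf_one] at hvo; exact hr.one_lt.ne hvo
  have hvC : v ∈ centralizer ({x} : Set G) := pow_mem hw _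
  have hCv : centralizer ({x} : Set G) = centralizer ({v} : Set G) := by
    refine hco x v hx hv1 (mem_centralizer_singleton_iff.1 hvC).symm ?_
    rw [hxo, hvo]
    exact ((Nat.coprime_primes hp hr).2 (Ne.symm hrp)).pow_left k
  set C := centralizer ({x} : Set G) with hC
  have hcentral : ∀ (s : ℕ) (y : G), s.Prime → y ∈ C → (∃ j, orderOf y = s ^ j) →
      C ≤ centralizer ({y} : Set G) := by
    intro s y hs hy ⟨j, hj⟩
    by_cases hy1 : y = 1
    · rw [hy1]; intro z _; rw [mem_centralizer_singleton_iff, mul_one, one_mul]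
    by_cases hsp : s = p
    · rw [hCv, hco v y hv1 hy1 ?_ ?_]
      · exact (mem_centralizer_singleton_iff.1 (hCv ▸ hy)).symm
      · rw [hvo, hj, hsp]; exact ((Nat.coprime_primes hr hp).2 hrp).pow_right j
    · rw [hC, hco x y hx hy1 ?_ ?_]
      · exact (mem_centralizer_singleton_iff.1 hy).symm
      · rw [hxo, hj]; exact (((Nat.coprime_primes hp hs).2 (Ne.symm hsp)).pow_left k).pow_right j
  refine ⟨⟨fun u w => Subtype.ext ?_⟩⟩
  have := le_centralizer_of_prime_pow C (u : G) (fun s y hs hy hj =>
    (mem_centralizer_singleton_iff.1 (hcentral s y hs hy hj u.2) : Commute (u : G) y)) w.2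
  exact (mem_centralizer_singleton_iff.1 this).symm

/-- In the free case the group is a CN-group, so of even order. -/
theorem even_of_free (hfree : ∀ x y : G, x ≠ 1 → y ≠ 1 → cs x ∣ cs y → cs x = cs y) : Even (Nat.card G) := by
  rw [← Nat.not_odd_iff_even]
  intro hodd
  refine T.na (IsSimpleGroup.comm_iff_isSolvable.2 (CfsgLib.Char.cn_odd_solvable hodd fun x hx => ?_))
  obtain ⟨k, hk⟩ := exists_pow_prime hx
  have hk1 : x ^ k ≠ 1 := fun h => by rw [h, orderOf_one] at hk; exact Nat.not_prime_one hk
  rw [T.free_heq hfree x _ hx hk1 (centralizer_le_pow x k)]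
  haveI := Fact.mk hk
  by_cases hp : IsPGroup (orderOf (x ^ k)) (centralizer ({x ^ k} : Set G))
  · exact hp.isNilpotent
  · haveI := T.free_abelian hfree _ _ 1 hk hk1 (pow_one _).symm hp
    exact CfsgLib.Schmidt.isNilpotent_of_comm (T.free_abelian hfree _ _ 1 hk hk1 (pow_one _).symm hp)

omit [IsSimpleGroup G] in
/-- In the free case involution centralisers are abelian. -/
theorem abelian_of_free (hfree : ∀ x y : G, x ≠ 1 → y ≠ 1 → cs x ∣ cs y → cs x = cs y)
    (t : G) (ht : orderOf t = 2) : IsMulCommutative (centralizer ({t} : Set G)) := by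
  classical
  haveI : Fact (Nat.Prime 2) := ⟨Nat.prime_two⟩
  have heq := T.free_heq hfree
  have hab := T.free_abelian hfree
  by_contra hna
  have ht1 : t ≠ 1 := fun h => by rw [h, orderOf_one] at ht; omega
  have htp : IsPGroup 2 (centralizer ({t} : Set G)) := by
    by_contra h
    exact hna (hab t 2 1 Nat.prime_two ht1 (by rw [ht, pow_one]) h)
  obtain ⟨S, hS⟩ := htp.exists_le_sylow
  have h2G := T.two_dvd_card_of ht
  have hne1 : ∀ {z : G}, orderOf z = 2 → z ≠ 1 := fun hz h => by rw [h, orderOf_one] at hz; omega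
  -- the centraliser of a central involution of `S` is `C(t) = S`
  obtain ⟨z, hzS, hz, hzc⟩ := exists_central S h2G
  have hz1 := hne1 hz
  have hCtz : centralizer ({t} : Set G) = centralizer ({z} : Set G) := heq t z ht1 hz1 (hS.trans hzc)
  have hCz : centralizer ({z} : Set G) = (S : Subgroup G) := le_antisymm (hCtz ▸ hS) hzc
  have hSna : ¬ IsMulCommutative (S : Subgroup G) := by rw [← hCz, ← hCtz]; exact hna
  -- the centraliser of a 2-element is a Sylow 2-subgroup
  have hsyl : ∀ y : G, y ≠ 1 → (∃ j, orderOf y = 2 ^ j) →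
      ∃ g : G, centralizer ({y} : Set G) = centralizer ({g * z * g⁻¹} : Set G) ∧
        IsPGroup 2 (centralizer ({y} : Set G)) := by
    intro y hy ⟨j, hj⟩
    have hyp : IsPGroup 2 (zpowers y) := IsPGroup.of_card (n := j) (by rw [Nat.card_zpowers, hj])
    obtain ⟨S', hS'⟩ := hyp.exists_le_sylow
    obtain ⟨g, hg⟩ := MulAction.exists_smul_eq G S S'
    set z' := g * z * g⁻¹ with hz'
    have hz'1 : z' ≠ 1 := fun h => hz1 (conj_eq_one_iff.1 h)
    have hconj : ∀ w, w ∈ centralizer ({z'} : Set G) ↔ g⁻¹ * w * g ∈ (S : Subgroup G) := by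
      intro w
      rw [← hCz, mem_centralizer_singleton_iff, mem_centralizer_singleton_iff, hz']
      constructor <;> intro h
      · calc g⁻¹ * w * g * z = g⁻¹ * (w * (g * z * g⁻¹)) * g := by group
          _ = g⁻¹ * ((g * z * g⁻¹) * w) * g := by rw [h]
          _ = z * (g⁻¹ * w * g) := by group
      · calc w * (g * z * g⁻¹) = g * ((g⁻¹ * w * g) * z) * g⁻¹ := by group
          _ = g * (z * (g⁻¹ * w * g)) * g⁻¹ := by rw [h]
          _ = g * z * g⁻¹ * w := by group
    have hyC : y ∈ centralizer ({z'} : Set G) := by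
      rw [hconj]
      have : y ∈ (S' : Subgroup G) := hS' (mem_zpowers y)
      rw [← hg, Sylow.smul_def, Sylow.pointwise_smul_def, mem_pointwise_smul_iff_inv_smul_mem] at this
      simpa [MulAut.smul_def] using this
    have hz'y : z' ∈ centralizer ({y} : Set G) :=
      mem_centralizer_singleton_iff.2 (mem_centralizer_singleton_iff.1 hyC).symm
    have hp2 : IsPGroup 2 (centralizer ({y} : Set G)) := by
      by_contra hnp
      haveI := hab y 2 j Nat.prime_two hy hj hnp
      have hle : centralizer ({y} : Set G) ≤ centralizer ({z'} : Set G) := fun w hw =>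
        mem_centralizer_singleton_iff.2 (setLike_mul_comm (S := Subgroup G) hw hz'y)
      apply hSna
      refine ⟨⟨fun a b => Subtype.ext ?_⟩⟩
      have e := heq y z' hy hz'1 hle
      have ha : g * a * g⁻¹ ∈ centralizer ({y} : Set G) := by
        rw [e, hconj]; simpa [mul_assoc] using a.2
      have hb : g * b * g⁻¹ ∈ centralizer ({y} : Set G) := by
        rw [e, hconj]; simpa [mul_assoc] using b.2
      have h := setLike_mul_comm (S := Subgroup G) ha hb
      calc (a : G) * b = g⁻¹ * ((g * a * g⁻¹) * (g * b * g⁻¹)) * g := by group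
        _ = g⁻¹ * ((g * b * g⁻¹) * (g * a * g⁻¹)) * g := by rw [h]
        _ = b * a := by group
    obtain ⟨S'', hS''⟩ := hp2.exists_le_sylow
    obtain ⟨z'', -, hz'', hz''c⟩ := exists_central S'' h2G
    have e := heq y z'' hy (hne1 hz'') (hS''.trans hz''c)
    obtain ⟨g', hg'⟩ := MulAction.exists_smul_eq G S S''
    set z₃ := g' * z * g'⁻¹ with hz₃
    have hz₃c : (S'' : Subgroup G) ≤ centralizer ({z₃} : Set G) := by
      intro w hw
      rw [← hg', Sylow.smul_def, Sylow.pointwise_smul_def, mem_pointwise_smul_iff_inv_smul_mem] at hw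
      simp only [MulAut.smul_def, MulAut.conj_inv_apply] at hw
      rw [mem_centralizer_singleton_iff, hz₃]
      have hc := mem_centralizer_singleton_iff.1 (hzc hw)
      calc w * (g' * z * g'⁻¹) = g' * ((g'⁻¹ * w * g') * z) * g'⁻¹ := by group
        _ = g' * (z * (g'⁻¹ * w * g')) * g'⁻¹ := by rw [hc]
        _ = g' * z * g'⁻¹ * w := by group
    exact ⟨g', heq y z₃ hy (fun h => hz1 (conj_eq_one_iff.1 h)) (hS''.trans hz₃c), hp2⟩
  -- elements outside the centre are involutions
  have hinv : ∀ y ∈ (S : Subgroup G), ¬ (∀ s ∈ (S : Subgroup G), s * y = y * s) → y * y = 1 := by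
    intro y hy hync
    by_contra hyy
    obtain ⟨j, hj⟩ := S.2 ⟨y, hy⟩
    have hyj : ∃ i, orderOf y = 2 ^ i := by
      obtain ⟨i, -, hi⟩ := (Nat.dvd_prime_pow Nat.prime_two).1
        (orderOf_dvd_of_pow_eq_one (congrArg Subtype.val hj) : orderOf y ∣ 2 ^ j)
      exact ⟨i, hi⟩
    have hy1 : y ≠ 1 := fun h => hyy (by rw [h, one_mul])
    have hyz : Commute y z := mem_centralizer_singleton_iff.1 (hzc hy)
    have hsq : ∀ w : G, w * w ≠ 1 → centralizer ({w} : Set G) = centralizer ({w * w} : Set G) := by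
      intro w hw
      refine heq w (w * w) (fun h => hw (by rw [h, one_mul])) hw ?_
      have := centralizer_le_pow w 2
      rwa [pow_two] at this
    have hsqyz : (y * z) * (y * z) = y * y := by
      have hz2 : z * z = 1 := by rw [← pow_two, ← hz, pow_orderOf_eq_one]
      calc (y * z) * (y * z) = y * (z * y) * z := by group
        _ = y * (y * z) * z := by rw [hyz.eq]
        _ = y * y * (z * z) := by group
        _ = y * y := by rw [hz2, mul_one]
    have e : centralizer ({y * z} : Set G) = centralizer ({y} : Set G) := by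
      rw [hsq _ (by rw [hsqyz]; exact hyy), hsqyz, ← hsq y hyy]
    have hle : centralizer ({y} : Set G) ≤ centralizer ({z} : Set G) := by
      intro w hw
      have hw' : Commute w (y * z) := mem_centralizer_singleton_iff.1 (e.symm ▸ hw)
      have hwy : Commute w y := mem_centralizer_singleton_iff.1 hw
      have := hwy.inv_right.mul_right hw'
      rw [inv_mul_cancel_left] at this
      exact mem_centralizer_singleton_iff.2 this.eq
    have e2 := heq y z hy1 hz1 hle
    exact hync fun s hs => mem_centralizer_singleton_iff.1 (by rw [e2]; exact hzc hs)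
  apply hSna
  obtain ⟨y₀, hy₀, hy₀nc⟩ : ∃ y ∈ (S : Subgroup G), ¬ ∀ s ∈ (S : Subgroup G), s * y = y * s := by
    by_contra hno
    push Not at hno
    exact hSna ⟨⟨fun a b => Subtype.ext (hno b b.2 a a.2)⟩⟩
  have hall : ∀ y ∈ (S : Subgroup G), y * y = 1 := by
    intro y hy
    by_cases hc : ∀ s ∈ (S : Subgroup G), s * y = y * s
    · have h1 := hinv y₀ hy₀ hy₀nc
      have h2 := hinv (y₀ * y) (mul_mem hy₀ hy) (fun h => hy₀nc fun s hs => by
        have h' := h s hs
        calc s * y₀ = (s * (y₀ * y)) * y⁻¹ := by group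
          _ = ((y₀ * y) * s) * y⁻¹ := by rw [h']
          _ = y₀ * (y * s) * y⁻¹ := by group
          _ = y₀ * (s * y) * y⁻¹ := by rw [hc s hs]
          _ = y₀ * s := by group)
      calc y * y = (y₀ * y₀) * (y * y) := by rw [h1, one_mul]
        _ = y₀ * (y₀ * y) * y := by group
        _ = y₀ * (y * y₀) * y := by rw [hc y₀ hy₀]
        _ = (y₀ * y) * (y₀ * y) := by group
        _ = 1 := h2
    · exact hinv y hy hc
  refine ⟨⟨fun a b => Subtype.ext ?_⟩⟩
  have hi : ∀ w ∈ (S : Subgroup G), w⁻¹ = w := fun w hw => inv_eq_of_mul_eq_one_right (hall w hw)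
  show (a : G) * b = b * a
  rw [← hi _ (mul_mem a.2 b.2), mul_inv_rev, hi a a.2, hi b b.2]

/-- In the non-free case the involution centralisers are abelian. -/
theorem abelian_of_not_free (hnf : ¬ ∀ x y : G, x ≠ 1 → y ≠ 1 → cs x ∣ cs y → cs x = cs y) :
    Even (Nat.card G) ∧
      ∀ t : G, orderOf t = 2 → IsMulCommutative (centralizer ({t} : Set G)) := by
  classical
  haveI : Fact (Nat.Prime 2) := ⟨Nat.prime_two⟩
  haveI := Fintype.ofFinite G
  push Not at hnf
  obtain ⟨x₀, y₁, hx₀, hy₁, hdvd, hne⟩ := hnf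
  set a := cs x₀ with ha
  set b := cs y₁ with hb
  have haS : a ∈ T.sizes := T.mem x₀ hx₀
  have hbS : b ∈ T.sizes := T.mem y₁ hy₁
  obtain ⟨c, hcS, hca, hcb, hall⟩ : ∃ c ∈ T.sizes, c ≠ a ∧ c ≠ b ∧
      ∀ n ∈ T.sizes, n = a ∨ n = b ∨ n = c := by
    obtain ⟨p, q, r, hpq, hpr, hqr, heq⟩ := Set.ncard_eq_three.1 T.three
    rw [heq] at haS hbS ⊢
    simp only [Set.mem_insert_iff, Set.mem_singleton_iff] at haS hbS ⊢
    rcases haS with e1 | e1 | e1 <;> rcases hbS with e2 | e2 | e2
    all_goals first
      | exact absurd (e1.trans e2.symm) hne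
      | exact ⟨p, Or.inl rfl, by omega, by omega, by intro n hn; omega⟩
      | exact ⟨q, Or.inr (Or.inl rfl), by omega, by omega, by intro n hn; omega⟩
      | exact ⟨r, Or.inr (Or.inr rfl), by omega, by omega, by intro n hn; omega⟩
  have hF2 : ∀ p : ℕ, p.Prime → p ∣ a → p ∣ b → p ∣ c → False := by
    intro p hp h1 h2 h3
    obtain ⟨x, hx, hnd⟩ := T.exists_not_dvd hp
    rcases hall _ (T.mem x hx) with h | h | h
    · exact hnd (by rw [h]; exact h1)
    · exact hnd (by rw [h]; exact h2)
    · exact hnd (by rw [h]; exact h3)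
  have hane : ∀ n ∈ T.sizes, n ≠ 1 := fun n hn => by
    obtain ⟨x, hx, rfl⟩ := T.val n hn; exact T.cs_ne_one hx
  have hac : ¬ a ∣ c := by
    intro h
    obtain ⟨p, hp, hpd⟩ := Nat.exists_prime_and_dvd (hane a haS)
    exact hF2 p hp hpd (hpd.trans hdvd) (hpd.trans h)
  have hcna : ¬ c ∣ a := by
    intro h
    obtain ⟨p, hp, hpd⟩ := Nat.exists_prime_and_dvd (hane c hcS)
    exact hF2 p hp (hpd.trans h) ((hpd.trans h).trans hdvd) hpd
  have hcop : a.Coprime c := Nat.coprime_of_dvd fun p hp h1 h2 => hF2 p hp h1 (h1.trans hdvd) h2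
  have hbc : ¬ b ∣ c := fun h => hac (hdvd.trans h)
  have hba : ¬ b ∣ a := fun h => hne (Nat.dvd_antisymm hdvd h)
  have hmina : ∀ n ∈ T.sizes, n ∣ a → n = a := by
    intro n hn h
    rcases hall n hn with rfl | rfl | rfl
    exacts [rfl, absurd h hba, absurd h hcna]
  have hminc : ∀ n ∈ T.sizes, n ∣ c → n = c := by
    intro n hn h
    rcases hall n hn with rfl | rfl | rfl
    exacts [absurd h hac, absurd h hbc, rfl]
  have hmaxb : ∀ n ∈ T.sizes, b ∣ n → n = b := by
    intro n hn h
    rcases hall n hn with rfl | rfl | rfl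
    exacts [absurd h hba, rfl, absurd h hbc]
  -- type `a` and type `c` elements never commute
  have hnc : ∀ x y : G, x ≠ 1 → y ≠ 1 → cs x = a → cs y = c → ¬ Commute x y := by
    intro x y hx hy hxa hyc hcomm
    have hle : normalClosure ({x} : Set G) ≤ centralizer ({y} : Set G) := by
      rw [normalClosure, closure_le]
      intro w hw
      obtain ⟨x', hx', hconj⟩ := Group.mem_conjugatesOfSet_iff.1 hw
      rw [Set.mem_singleton_iff] at hx'
      rw [hx'] at hconj
      obtain ⟨g, rfl⟩ := isConj_iff.1 hconj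
      obtain ⟨h, hh, k, hk, hgk⟩ := exists_mul_of_coprime_index (centralizer ({x} : Set G))
        (centralizer ({y} : Set G)) (by show (cs x).Coprime (cs y); rw [hxa, hyc]; exact hcop) g⁻¹
      have hg : g = k⁻¹ * h⁻¹ := by rw [← mul_inv_rev, ← hgk, inv_inv]
      have hh' : Commute h⁻¹ x := Commute.inv_left (mem_centralizer_singleton_iff.1 hh)
      rw [SetLike.mem_coe, hg, show k⁻¹ * h⁻¹ * x * (k⁻¹ * h⁻¹)⁻¹ = k⁻¹ * (h⁻¹ * x * h) * k by group,
        show h⁻¹ * x * h = x by rw [hh'.eq]; group]
      exact mul_mem (mul_mem (inv_mem hk) (mem_centralizer_singleton_iff.2 hcomm.eq)) hk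
    haveI : (normalClosure ({x} : Set G)).Normal := normalClosure_normal
    rcases IsSimpleGroup.eq_bot_or_eq_top_of_normal (normalClosure ({x} : Set G)) inferInstance with h | h
    · exact hx (mem_bot.1 (h ▸ subset_normalClosure (Set.mem_singleton x)))
    · rw [h, top_le_iff] at hle
      have h1 := T.cs_ne_one hy
      rw [cs, hle, index_top] at h1
      exact h1 rfl
  -- representatives of prime order
  have hrep : ∀ n ∈ T.sizes, (∀ m ∈ T.sizes, m ∣ n → m = n) →
      ∃ x : G, x ≠ 1 ∧ cs x = n ∧ (orderOf x).Prime := by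
    intro n hn hmin
    obtain ⟨x, hx, rfl⟩ := T.val n hn
    obtain ⟨k, hk⟩ := exists_pow_prime hx
    have hk1 : x ^ k ≠ 1 := fun h => by rw [h, orderOf_one] at hk; exact Nat.not_prime_one hk
    exact ⟨x ^ k, hk1, hmin _ (T.mem _ hk1) (cs_pow_dvd x k), hk⟩
  obtain ⟨x, hx, hxa, hxp⟩ := hrep a haS hmina
  obtain ⟨y, hy, hyc, hyp⟩ := hrep c hcS hminc
  -- `C(x) ∩ C(y) = 1`
  have hDgen : ∀ x y : G, cs x = a → cs y = c → (orderOf x).Prime → (orderOf y).Prime →
      centralizer ({x} : Set G) ⊓ centralizer ({y} : Set G) ≠ ⊥ →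
      orderOf x = orderOf y ∧ IsPGroup (orderOf x) ↥(centralizer ({x} : Set G) ⊓ centralizer ({y} : Set G)) := by
    intro x y hxa hyc hxp hyp hD
    have hx : x ≠ 1 := fun h => by rw [h, orderOf_one] at hxp; exact Nat.not_prime_one hxp
    have hy : y ≠ 1 := fun h => by rw [h, orderOf_one] at hyp; exact Nat.not_prime_one hyp
    have key : ∀ w ∈ centralizer ({x} : Set G) ⊓ centralizer ({y} : Set G), (orderOf w).Prime →
        orderOf w = orderOf x ∧ orderOf w = orderOf y := by
      intro w hw hwp
      have hw1 : w ≠ 1 := fun h => by rw [h, orderOf_one] at hwp; exact Nat.not_prime_one hwp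
      have hwx : Commute x w := (mem_centralizer_singleton_iff.1 hw.1).symm
      have hwy : Commute y w := (mem_centralizer_singleton_iff.1 hw.2).symm
      have hwb : cs w = b := by
        rcases hall _ (T.mem w hw1) with h | h | h
        · exact absurd hwy.symm (hnc w y hw1 hy h hyc)
        · exact h
        · exact absurd hwx (hnc x w hx hw1 hxa h)
      have hgen : ∀ u : G, (orderOf u).Prime → Commute u w → orderOf w ≠ orderOf u →
          centralizer ({w} : Set G) ≤ centralizer ({u} : Set G) := by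
        intro u hup huw hne'
        have hcp : (orderOf u).Coprime (orderOf w) := (Nat.coprime_primes hup hwp).2 (Ne.symm hne')
        have h := centralizer_mul_of_coprime huw hcp
        have huw1 : u * w ≠ 1 := by
          intro h1
          rw [eq_inv_of_mul_eq_one_left h1, orderOf_inv, Nat.coprime_self] at hcp
          exact hw1 (orderOf_eq_one_iff.1 hcp)
        have hd : b ∣ cs (u * w) := hwb ▸ index_dvd_of_le (h ▸ inf_le_right)
        have hsize : cs (u * w) = b := hmaxb _ (T.mem _ huw1) hd
        have heqC : centralizer ({u * w} : Set G) = centralizer ({w} : Set G) := by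
          refine Subgroup.eq_of_le_of_card_ge (h ▸ inf_le_right) ?_
          have h1 := cs_mul (u * w); have h2 := cs_mul w
          rw [hsize] at h1; rw [hwb] at h2
          exact le_of_eq (Nat.eq_of_mul_eq_mul_right (Nat.pos_of_ne_zero index_ne_zero_of_finite) (h2.trans h1.symm))
        rw [← heqC, h]; exact inf_le_left
      constructor
      · by_contra hne'
        have := hgen x hxp hwx hne' (mem_centralizer_singleton_iff.2 hwy.eq : y ∈ centralizer ({w} : Set G))
        exact hnc x y hx hy hxa hyc (mem_centralizer_singleton_iff.1 this).symm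
      · by_contra hne'
        have := hgen y hyp hwy hne' (mem_centralizer_singleton_iff.2 hwx.eq : x ∈ centralizer ({w} : Set G))
        exact hnc x y hx hy hxa hyc (mem_centralizer_singleton_iff.1 this)
    obtain ⟨d, hd, hd1⟩ := (Subgroup.bot_or_exists_ne_one _).resolve_left hD
    obtain ⟨k, hk⟩ := exists_pow_prime hd1
    refine ⟨(key _ (pow_mem hd k) hk).1.symm.trans (key _ (pow_mem hd k) hk).2, fun w => ?_⟩
    have hall' : ∀ r : ℕ, r.Prime → r ∣ orderOf (w : G) → r = orderOf x := by
      intro r hr hrd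
      have ho := orderOf_pow_orderOf_div (orderOf_pos (w : G)).ne' hrd
      rw [← ho]; exact (key _ (pow_mem w.2 _) (ho.symm ▸ hr)).1
    refine ⟨_, Subtype.ext (orderOf_dvd_iff_pow_eq_one.1 (dvd_of_eq
      (Nat.eq_prime_pow_of_unique_prime_dvd (orderOf_pos (w : G)).ne' (fun {r} hr hrd => hall' r hr hrd))))⟩
  have hcard : ∀ x y : G, cs x = a → cs y = c →
      Nat.card ↥(centralizer ({x} : Set G) ⊓ centralizer ({y} : Set G)) * (a * c) = Nat.card G := by
    intro x y hxa hyc
    set D := centralizer ({x} : Set G) ⊓ centralizer ({y} : Set G)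
    have h1 : a * c ∣ D.index :=
      hcop.mul_dvd_of_dvd_of_dvd (hxa ▸ index_dvd_of_le inf_le_left) (hyc ▸ index_dvd_of_le inf_le_right)
    have h2 : D.index ≤ a * c := by rw [← hxa, ← hyc]; exact index_inf_le
    rw [← le_antisymm h2 (Nat.le_of_dvd (Nat.pos_of_ne_zero D.index_ne_zero_of_finite) h1), D.card_mul_index]
  have hD : centralizer ({x} : Set G) ⊓ centralizer ({y} : Set G) = ⊥ := by
    by_contra hD
    obtain ⟨hxy, -⟩ := hDgen x y hxa hyc hxp hyp hD
    -- all prime order elements of types `a`, `c` have the same order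
    have hsame : ∀ u : G, (orderOf u).Prime → (cs u = a ∨ cs u = c) → orderOf u = orderOf x := by
      intro u hu htype
      have hne' : ∀ u' v' : G, cs u' = a → cs v' = c → centralizer ({u'} : Set G) ⊓ centralizer ({v'} : Set G) ≠ ⊥ := by
        intro u' v' h1 h2 h0
        have e1 := hcard x y hxa hyc
        have e2 := hcard u' v' h1 h2
        rw [h0, card_bot, one_mul] at e2
        rw [← e2] at e1
        apply hD
        rw [← card_eq_one]
        refine Nat.eq_of_mul_eq_mul_right (Nat.pos_of_ne_zero fun h => ?_) (e1.trans (one_mul _).symm)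
        exact (Nat.card_pos (α := G)).ne' (e2.symm.trans h)
      rcases htype with h | h
      · exact (hDgen u y h hyc hu hyp (hne' u y h hyc)).1.trans hxy.symm
      · exact (hDgen x u hxa h hxp hu (hne' x u hxa h)).1.symm
    -- every prime divisor of `a` is the order of `x`
    have hpa : ∀ q : ℕ, q.Prime → q ∣ a → q = orderOf x := by
      intro q hq hqa
      haveI := Fact.mk hq
      obtain ⟨Q⟩ : Nonempty (Sylow q G) := inferInstance
      have hqG : q ∣ Nat.card G := hqa.trans (hxa ▸ index_dvd_card _)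
      obtain ⟨z, -, hz, hzc⟩ := exists_central Q hqG
      have hz1 : z ≠ 1 := fun h => by rw [h, orderOf_one] at hz; exact hq.one_lt.ne hz
      have hnd : ¬ q ∣ cs z := fun h => Q.not_dvd_index (h.trans (index_dvd_of_le hzc))
      have hzt : cs z = c := by
        rcases hall _ (T.mem z hz1) with h | h | h
        · exact absurd (by rw [h]; exact hqa) hnd
        · exact absurd (by rw [h]; exact hqa.trans hdvd) hnd
        · exact h
      rw [← hz]; exact hsame z (hz.symm ▸ hq) (Or.inr hzt)
    refine T.not_pow hx hxp (k := a.primeFactorsList.length) ?_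
    rw [hxa]
    exact Nat.eq_prime_pow_of_unique_prime_dvd (fun h => by rw [h] at hdvd; exact (T.cs_ne_one hy₁) (by
      have := Nat.eq_zero_of_zero_dvd hdvd
      exact absurd this index_ne_zero_of_finite)) (fun {q} hq hqa => hpa q hq hqa)
  have hac' : a * c = Nat.card G := by
    have := hcard x y hxa hyc
    rwa [hD, card_bot, one_mul] at this
  have hcardy : ∀ u : G, cs u = c → Nat.card (centralizer ({u} : Set G)) = a := by
    intro u hu
    have h := cs_mul u
    rw [hu, ← hac'] at h
    exact Nat.eq_of_mul_eq_mul_right (Nat.pos_of_ne_zero fun h0 => (Nat.card_pos (α := G)).ne' (by rw [← hac', h0, mul_zero])) h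
  set A := centralizer ({y} : Set G) with hA
  have hAa : Nat.card A = a := hcardy y hyc
  -- everything in `A` has type `c`
  have hAc : ∀ u ∈ A, u ≠ 1 → cs u = c := by
    intro u hu hu1
    have hcomm : Commute u y := mem_centralizer_singleton_iff.1 hu
    rcases hall _ (T.mem u hu1) with h | h | h
    · exact absurd hcomm (hnc u y hu1 hy h hyc)
    · exfalso
      have hyu : y ∈ centralizer ({u} : Set G) := mem_centralizer_singleton_iff.2 hcomm.symm.eq
      have h1 := Subgroup.orderOf_dvd_natCard _ hyu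
      have h2 : Nat.card (centralizer ({u} : Set G)) ∣ c := by
        have h' := cs_mul u
        rw [h] at h'
        obtain ⟨m, hm⟩ := hdvd
        rw [← hac', hm] at h'
        refine ⟨m, ?_⟩
        have ha0 : 0 < a := Nat.pos_of_ne_zero index_ne_zero_of_finite
        refine Nat.eq_of_mul_eq_mul_left ha0 ?_
        rw [← h']; ring
      have h3 : orderOf y ∣ a := hAa ▸ Subgroup.orderOf_dvd_natCard A
        (mem_centralizer_singleton_iff.2 rfl)
      have := Nat.dvd_gcd h3 (h1.trans h2)
      rw [hcop] at this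
      exact hy (orderOf_eq_one_iff.1 (Nat.dvd_one.1 this))
    · exact h
  have hApp : ¬ IsPrimePow (Nat.card A) := by
    rw [hAa]
    rintro ⟨p, k, hp, -, hpk⟩
    exact T.not_pow hx hp.nat_prime (hxa.trans hpk.symm)
  -- `A` is abelian and self-centralising
  have hself0 : ∀ u ∈ A, u ≠ 1 → (A ≤ centralizer ({u} : Set G) ∨ centralizer ({u} : Set G) ≤ A) →
      centralizer ({u} : Set G) = A := by
    intro u hu hu1 h
    have hcu := hcardy u (hAc u hu hu1)
    rcases h with h | h
    · exact (Subgroup.eq_of_le_of_card_ge h (by rw [hcu, hAa])).symm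
    · exact Subgroup.eq_of_le_of_card_ge h (by rw [hcu, hAa])
  have hcoA : ∀ u v : G, u ∈ A → v ∈ A → u ≠ 1 → v ≠ 1 → Commute u v → (orderOf u).Coprime (orderOf v) →
      u * v ∈ A ∧ centralizer ({u} : Set G) = centralizer ({v} : Set G) := by
    intro u v hu hv hu1 hv1 huv hcp
    have huv1 : u * v ≠ 1 := by
      intro h
      rw [eq_inv_of_mul_eq_one_left h, orderOf_inv, Nat.coprime_self] at hcp
      exact hv1 (orderOf_eq_one_iff.1 hcp)
    have h := centralizer_mul_of_coprime huv hcp
    have huvA := mul_mem hu hv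
    have e1 : centralizer ({u * v} : Set G) = centralizer ({u} : Set G) :=
      Subgroup.eq_of_le_of_card_ge (h ▸ inf_le_left)
        (by rw [hcardy _ (hAc u hu hu1), hcardy _ (hAc _ huvA huv1)])
    have e2 : centralizer ({u * v} : Set G) = centralizer ({v} : Set G) :=
      Subgroup.eq_of_le_of_card_ge (h ▸ inf_le_right)
        (by rw [hcardy _ (hAc v hv hv1), hcardy _ (hAc _ huvA huv1)])
    exact ⟨huvA, e1.symm.trans e2⟩
  have hyA : y ∈ A := mem_centralizer_singleton_iff.2 rfl
  obtain ⟨r, hr, hrd, hrs⟩ : ∃ r : ℕ, r.Prime ∧ r ∣ Nat.card A ∧ r ≠ orderOf y := by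
    by_contra hno
    push Not at hno
    have hpw := Nat.eq_prime_pow_of_unique_prime_dvd Nat.card_pos.ne' (fun {q} hq hqd => hno q hq hqd)
    refine hApp ⟨orderOf y, _, hyp.prime, Nat.pos_of_ne_zero fun h0 => ?_, hpw.symm⟩
    rw [h0, pow_zero] at hpw
    exact hane a haS (hAa ▸ hpw)
  haveI := Fact.mk hr
  obtain ⟨v', hv'⟩ := exists_prime_orderOf_dvd_card' (G := A) r hrd
  have hv : orderOf (v' : G) = r := by rw [Subgroup.orderOf_coe, hv']
  have hv1 : (v' : G) ≠ 1 := fun h => by rw [h, orderOf_one] at hv; exact hr.one_lt.ne hv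
  have hCv : centralizer ({(v' : G)} : Set G) = A :=
    ((hcoA y v' hyA v'.2 hy hv1 (Commute.symm (mem_centralizer_singleton_iff.1 v'.2))
      (by rw [hv]; exact (Nat.coprime_primes hyp hr).2 (Ne.symm hrs))).2).symm
  have hprime_central : ∀ (s : ℕ) (u : G), s.Prime → u ∈ A → (∃ j, orderOf u = s ^ j) →
      A ≤ centralizer ({u} : Set G) := by
    intro s u hs hu ⟨j, hj⟩
    by_cases hu1 : u = 1
    · rw [hu1]; intro w _; rw [mem_centralizer_singleton_iff, mul_one, one_mul]
    by_cases hsy : s = orderOf y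
    · have := (hcoA v' u v'.2 hu hv1 hu1
        (Commute.symm (mem_centralizer_singleton_iff.1 (hCv.symm ▸ hu)))
        (by rw [hv, hj, hsy]; exact ((Nat.coprime_primes hr hyp).2 hrs).pow_right j)).2
      exact le_of_eq (hCv.symm.trans this)
    · have := (hcoA y u hyA hu hy hu1 (Commute.symm (mem_centralizer_singleton_iff.1 hu))
        (by rw [hj]; exact ((Nat.coprime_primes hyp hs).2 (Ne.symm hsy)).pow_right j)).2
      exact le_of_eq (hA.trans this)
  have hAcomm : ∀ u ∈ A, ∀ w ∈ A, u * w = w * u := by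
    intro u hu w hw
    have := le_centralizer_of_prime_pow A u (fun s w' hs hw' hj =>
      (mem_centralizer_singleton_iff.1 (hprime_central s w' hs hw' hj hu) : Commute u w')) hw
    exact (mem_centralizer_singleton_iff.1 this).symm
  have hself : ∀ u ∈ A, u ≠ 1 → centralizer ({u} : Set G) = A := fun u hu hu1 =>
    hself0 u hu hu1 (Or.inl fun w hw => mem_centralizer_singleton_iff.2 (hAcomm w hw u hu))
  by_cases h2a : 2 ∣ a
  · refine ⟨even_iff_two_dvd.2 (h2a.trans (index_dvd_card _)), fun t ht => ?_⟩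
    -- `A` contains a Sylow 2-subgroup
    obtain ⟨S₀⟩ : Nonempty (Sylow 2 A) := inferInstance
    obtain ⟨S, hS⟩ := (S₀.2.map A.subtype).exists_le_sylow
    have hSA : (S : Subgroup G) ≤ A := by
      have hidx : A.index = c := by show cs y = c; exact hyc
      have hnd : ¬ 2 ∣ c := fun h => hF2 2 Nat.prime_two h2a (h2a.trans hdvd) h
      have heq : (S₀ : Subgroup A).map A.subtype = S := by
        refine Subgroup.eq_of_le_of_card_ge hS ?_
        rw [card_map_of_injective A.subtype_injective, S.card_eq_multiplicity, S₀.card_eq_multiplicity]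
        refine Nat.pow_le_pow_right two_pos (le_of_eq ?_)
        rw [← A.card_mul_index, Nat.factorization_mul Nat.card_pos.ne' index_ne_zero_of_finite,
          Finsupp.add_apply, hidx, Nat.factorization_eq_zero_of_not_dvd hnd, add_zero]
      exact heq ▸ map_subtype_le _
    obtain ⟨T', hT'⟩ := (IsPGroup.of_card (p := 2) (n := 1) (G := zpowers t)
      (by rw [Nat.card_zpowers, ht, pow_one])).exists_le_sylow
    obtain ⟨g, hg⟩ := MulAction.exists_smul_eq G S T'
    have htg : g⁻¹ * t * g ∈ A := by
      refine hSA ?_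
      have := hT' (mem_zpowers t)
      rw [← hg, Sylow.smul_def, Sylow.pointwise_smul_def, mem_pointwise_smul_iff_inv_smul_mem] at this
      simpa [MulAut.smul_def] using this
    have hne1 : g⁻¹ * t * g ≠ 1 := fun h => by
      have : t = 1 := by
        calc t = g * (g⁻¹ * t * g) * g⁻¹ := by group
          _ = 1 := by rw [h]; group
      rw [this, orderOf_one] at ht; omega
    refine ⟨⟨fun u w => Subtype.ext ?_⟩⟩
    have key : ∀ w ∈ centralizer ({t} : Set G), g⁻¹ * w * g ∈ A := by
      intro w hw
      rw [← hself _ htg hne1, mem_centralizer_singleton_iff]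
      rw [mem_centralizer_singleton_iff] at hw
      calc g⁻¹ * w * g * (g⁻¹ * t * g) = g⁻¹ * (w * t) * g := by group
        _ = g⁻¹ * t * g * (g⁻¹ * w * g) := by rw [hw]; group
    have := hAcomm _ (key u u.2) _ (key w w.2)
    show (u : G) * w = w * u
    calc (u : G) * w = g * ((g⁻¹ * u * g) * (g⁻¹ * w * g)) * g⁻¹ := by group
      _ = g * ((g⁻¹ * w * g) * (g⁻¹ * u * g)) * g⁻¹ := by rw [this]
      _ = w * u := by group
  exfalso
  have hAgt : 1 < Nat.card A := by
    have h1 := hane a haS
    rw [hAa]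
    have : 0 < a := Nat.pos_of_ne_zero index_ne_zero_of_finite
    omega
  have hnotA : ∀ g : G, g ≠ 1 → (cs g = a ∨ cs g = b) → ∀ k : G, k * g * k⁻¹ ∉ A := by
    intro g hg htype k hk
    have h1 := hAc _ hk (fun h => hg (conj_eq_one_iff.1 h))
    have h2 : cs (k * g * k⁻¹) = cs g := by
      have hmap : centralizer ({k * g * k⁻¹} : Set G) =
          (centralizer ({g} : Set G)).map (MulAut.conj k).toMonoidHom := by
        ext w
        rw [mem_map_equiv, mem_centralizer_singleton_iff, mem_centralizer_singleton_iff,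
          MulAut.conj_symm_apply]
        constructor <;> intro h
        · calc k⁻¹ * w * k * g = k⁻¹ * (w * (k * g * k⁻¹)) * k := by group
            _ = k⁻¹ * ((k * g * k⁻¹) * w) * k := by rw [h]
            _ = g * (k⁻¹ * w * k) := by group
        · calc w * (k * g * k⁻¹) = k * ((k⁻¹ * w * k) * g) * k⁻¹ := by group
            _ = k * (g * (k⁻¹ * w * k)) * k⁻¹ := by rw [h]
            _ = k * g * k⁻¹ * w := by group
      simp only [cs]
      rw [hmap]
      exact index_map_equiv _ (MulAut.conj k)
    rw [h2] at h1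
    rcases htype with h | h <;> rw [h] at h1
    · exact hac (dvd_of_eq h1)
    · exact hcb h1.symm
  let cfg : CoprimeConfig G :=
    { A := A, x := x, comm := hAcomm, self := hself
      fac := fun g => exists_mul_of_coprime_index (centralizer ({x} : Set G)) A
        (by show (cs x).Coprime (cs y); rw [hxa, hyc]; exact hcop) g
      notMem := hnotA x hx (Or.inl hxa) }
  set N := normalizer (A : Set G) with hN
  set e := A.relIndex N with he
  have hAN : A ≤ N := le_normalizer
  -- a complement in the normaliser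
  have hAhall : (Nat.card A).Coprime A.index := by
    rw [hAa, show A.index = c from hyc]; exact hcop
  have hAidxN : (Nat.card A).Coprime e := hAhall.coprime_dvd_right (relIndex_dvd_index_of_le hAN)
  haveI : (A.subgroupOf N).Normal := inferInstance
  obtain ⟨E₀, hE₀⟩ := exists_right_complement'_of_coprime (N := A.subgroupOf N) (by
    rw [Nat.card_congr (subgroupOfEquivOfLe hAN).toEquiv]; exact hAidxN)
  have hE₀card : Nat.card E₀ = e := hE₀.symm.index_eq_card.symm
  have he1 : 1 < e := by
    by_contra hle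
    have hAeqN : N ≤ A := relIndex_eq_one.1 (by
      have : e ≠ 0 := fun h0 => (A.subgroupOf N).index_ne_zero_of_finite h0
      omega)
    -- Burnside transfer
    obtain ⟨p, hp, hpd⟩ := Nat.exists_prime_and_dvd (n := Nat.card A) (by omega)
    haveI := Fact.mk hp
    obtain ⟨P₀⟩ : Nonempty (Sylow p A) := inferInstance
    obtain ⟨P, hP⟩ := (P₀.2.map A.subtype).exists_le_sylow
    have hnd : ¬ p ∣ A.index := fun h => hp.not_dvd_one (hAhall ▸ Nat.dvd_gcd hpd h)
    have hPA : (P : Subgroup G) ≤ A := by
      have heq : (P₀ : Subgroup A).map A.subtype = P := by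
        refine Subgroup.eq_of_le_of_card_ge hP ?_
        rw [card_map_of_injective A.subtype_injective, P.card_eq_multiplicity, P₀.card_eq_multiplicity]
        refine Nat.pow_le_pow_right hp.pos (le_of_eq ?_)
        rw [← A.card_mul_index, Nat.factorization_mul Nat.card_pos.ne' index_ne_zero_of_finite,
          Finsupp.add_apply, Nat.factorization_eq_zero_of_not_dvd hnd, add_zero]
      exact heq ▸ map_subtype_le _
    obtain ⟨w, hw, hw1⟩ := (Subgroup.bot_or_exists_ne_one _).resolve_left
      (P.ne_bot_of_dvd_card (hpd.trans A.card_subgroup_dvd_card))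
    have hNP : normalizer ((P : Subgroup G) : Set G) ≤ centralizer ((P : Subgroup G) : Set G) := by
      intro n hn
      have hnA : n ∈ A := by
        refine hAeqN ?_
        have hn' : n * w * n⁻¹ ∈ A := hPA ((mem_normalizer_iff.1 hn w).1 hw)
        exact cfg.ti (hPA hw) hw1 hn'
      exact mem_centralizer_iff.2 fun u hu => hAcomm u (hPA hu) n hnA
    obtain ⟨P', K, hKn, hKP⟩ := CfsgLib.TransferBasic.hasNormalPComplement_of_le_centralizer P hNP
    have hkc : Nat.card K * Nat.card (P' : Subgroup G) = Nat.card G := hKP.card_mul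
    rcases IsSimpleGroup.eq_bot_or_eq_top_of_normal K hKn with h | h
    · rw [h, card_bot, one_mul] at hkc
      obtain ⟨k, hk⟩ := IsPGroup.iff_card.1 P'.2
      haveI := (IsPGroup.of_card (p := p) (G := G) (n := k) (hkc.symm.trans hk)).isNilpotent
      exact T.na (IsSimpleGroup.comm_iff_isSolvable.2 inferInstance)
    · rw [h, card_top] at hkc
      exact P'.ne_bot_of_dvd_card (hpd.trans A.card_subgroup_dvd_card) (card_eq_one.1
        (Nat.eq_of_mul_eq_mul_left Nat.card_pos (hkc.trans (mul_one _).symm)))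
  have hfpf : ∀ h ∈ E₀, h ≠ 1 → A.subgroupOf N ⊓ centralizer ({h} : Set N) = ⊥ := by
    intro h hh hh1
    rw [eq_bot_iff]
    rintro w ⟨hw, hwc⟩
    rw [mem_bot]
    by_contra hw1
    have hw' : (w : G) ∈ A := mem_subgroupOf.1 hw
    have hhA : (h : G) ∈ A := by
      rw [← hself _ hw' (fun h' => hw1 (Subtype.ext h')), mem_centralizer_singleton_iff]
      exact congrArg Subtype.val (mem_centralizer_singleton_iff.1 hwc).symm
    exact hh1 (mem_bot.1 (hE₀.disjoint.eq_bot ▸ (mem_inf.2 ⟨mem_subgroupOf.2 hhA, hh⟩)))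
  obtain ⟨φ, hφ⟩ := CfsgLib.FpfComplement.exists_fpf hfpf
  haveI : Nontrivial (A.subgroupOf N) := by
    rw [← Finite.one_lt_card_iff_nontrivial, Nat.card_congr (subgroupOfEquivOfLe hAN).toEquiv]; exact hAgt
  haveI : Nontrivial E₀ := Finite.one_lt_card_iff_nontrivial.1 (by rw [hE₀card]; exact he1)
  obtain ⟨u₀, hu₀, hu₀1⟩ := (Subgroup.bot_or_exists_ne_one _).resolve_left
    (CfsgLib.FpfComplement.center_ne_bot hφ)
  set u : G := ((u₀ : N) : G) with hu
  have hu1 : u ≠ 1 := fun h => hu₀1 (Subtype.ext (Subtype.ext h))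
  have huA : u ∉ A := fun h => hu₀1 (Subtype.ext (mem_bot.1 (hE₀.disjoint.eq_bot ▸
    (mem_inf.2 ⟨mem_subgroupOf.2 h, u₀.2⟩))))
  have hEC : e ≤ Nat.card (centralizer ({u} : Set G)) := by
    rw [← hE₀card]
    refine Nat.card_le_card_of_injective
      (fun k : E₀ => (⟨((k : N) : G), mem_centralizer_singleton_iff.2
        (congrArg (fun w : E₀ => ((w : N) : G)) (mem_center_iff.1 hu₀ k))⟩ : centralizer ({u} : Set G)))
      fun k k' h => Subtype.ext (Subtype.ext (Subtype.mk.inj h))
  have hub : cs u = b := by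
    rcases hall _ (T.mem u hu1) with h | h | h
    · exfalso
      have hle : normalClosure ({u} : Set G) ≤ N := by
        rw [normalClosure, closure_le]
        intro w hw
        obtain ⟨u', hu', hconj⟩ := Group.mem_conjugatesOfSet_iff.1 hw
        rw [Set.mem_singleton_iff] at hu'
        rw [hu'] at hconj
        obtain ⟨g, rfl⟩ := isConj_iff.1 hconj
        obtain ⟨k, hk, l, hl, hgk⟩ := exists_mul_of_coprime_index (centralizer ({u} : Set G)) A
          (by show (cs u).Coprime (cs y); rw [h, hyc]; exact hcop) g⁻¹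
        have hg : g = l⁻¹ * k⁻¹ := by rw [← mul_inv_rev, ← hgk, inv_inv]
        have hk' : Commute k⁻¹ u := Commute.inv_left (mem_centralizer_singleton_iff.1 hk)
        rw [SetLike.mem_coe, hg, show l⁻¹ * k⁻¹ * u * (l⁻¹ * k⁻¹)⁻¹ = l⁻¹ * (k⁻¹ * u * k) * l by group,
          show k⁻¹ * u * k = u by rw [hk'.eq]; group]
        exact mul_mem (mul_mem (inv_mem (hAN hl)) (u₀ : N).2) (hAN hl)
      haveI : (normalClosure ({u} : Set G)).Normal := normalClosure_normal
      rcases IsSimpleGroup.eq_bot_or_eq_top_of_normal (normalClosure ({u} : Set G)) inferInstance with h' | h'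
      · exact hu1 (mem_bot.1 (h' ▸ subset_normalClosure (Set.mem_singleton u)))
      · rw [h', top_le_iff] at hle
        have hAn : A.Normal := normalizer_eq_top_iff.1 hle
        rcases IsSimpleGroup.eq_bot_or_eq_top_of_normal A hAn with h'' | h''
        · rw [h'', card_bot] at hAgt; omega
        · exact huA (h'' ▸ mem_top u)
    · exact h
    · exfalso
      have h2 : e ∣ Nat.card (centralizer ({u} : Set G)) := by
        rw [← hE₀card, ← card_map_of_injective (f := N.subtype) N.subtype_injective]
        refine card_dvd_of_le ?_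
        rintro _ ⟨k, hk, rfl⟩
        exact mem_centralizer_singleton_iff.2
          (congrArg (fun w : E₀ => ((w : N) : G)) (mem_center_iff.1 hu₀ ⟨k, hk⟩))
      rw [hcardy u h, ← hAa] at h2
      have := Nat.dvd_gcd h2 dvd_rfl
      rw [hAidxN] at this
      have := Nat.dvd_one.1 this
      omega
  refine CoprimeConfig.false_of_config cfg T.na hAgt hApp (e := e) rfl he1 fun g hg1 hgA => ?_
  have h := cs_mul g
  have hu' := cs_mul u
  rcases hall _ (T.mem g hg1) with h' | h' | h'
  · -- type `a`
    rw [hub] at hu'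
    obtain ⟨m, hm⟩ := hdvd
    rw [h'] at h
    have hm0 : 0 < m := Nat.pos_of_ne_zero fun h0 => by
      rw [h0, mul_zero] at hm; exact absurd hm index_ne_zero_of_finite
    have hpos : 0 < a := Nat.pos_of_ne_zero index_ne_zero_of_finite
    have : Nat.card (centralizer ({u} : Set G)) ≤ Nat.card (centralizer ({g} : Set G)) := by
      refine Nat.le_of_mul_le_mul_right (?_ : _ * a ≤ _ * a) hpos
      rw [h, ← hu', hm, ← mul_assoc]
      exact Nat.le_mul_of_pos_right _ hm0
    omega
  · rw [h'] at h; rw [hub] at hu'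
    have := Nat.eq_of_mul_eq_mul_right (Nat.pos_of_ne_zero fun h0 => absurd (h'.trans h0) index_ne_zero_of_finite)
      (h.trans hu'.symm)
    omega
  · rw [hcardy g h']
    have : e ∣ Nat.card A - 1 := CfsgLib.Char.index_subgroupOf_dvd_card_sub_one hAN
      (fun n hn w hw => (mem_normalizer_iff.1 hn w).1 hw) (fun w hw hw1 => (hself w hw hw1).le)
    have := Nat.le_of_dvd (by omega) this
    omega

/-- All involution centralisers are abelian. -/
theorem abelian_involution_centralizer (t : G) (ht : orderOf t = 2) :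
    IsMulCommutative (centralizer ({t} : Set G)) := by
  by_cases h : ∀ x y : G, x ≠ 1 → y ≠ 1 → cs x ∣ cs y → cs x = cs y
  · exact T.abelian_of_free h t ht
  · exact (T.abelian_of_not_free h).2 t ht

/-- A simple group with three noncentral class sizes has even order. -/
theorem even_card : Even (Nat.card G) := by
  by_cases h : ∀ x y : G, x ≠ 1 → y ≠ 1 → cs x ∣ cs y → cs x = cs y
  · exact T.even_of_free h
  · exact (T.abelian_of_not_free h).1

end ThreeSizes

end CfsgLib.ClassRank
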